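import Mathlib

/-!
# Flat, unramified and residually trivial local maps come from étale algebras
-/

set_option autoImplicit false

universe u

open IsLocalRing TensorProduct

namespace ApproxLib

/-- A local algebra with trivial closed fibre has formally smooth closed fibre. -/
theorem formallySmooth_closedFibre {R S : Type u} [CommRing R] [CommRing S] [Algebra R S] [IsLocalRing R]
    [IsLocalRing S] [IsLocalHom (algebraMap R S)]
    (hm : (maximalIdeal R).map (algebraMap R S) = maximalIdeal S)
    (hres : ∀ x : S, ∃ a : R, x - algebraMap R S a ∈ maximalIdeal S) :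
    Algebra.FormallySmooth (ResidueField R) (ResidueField R ⊗[R] S) := by
  let π : ResidueField R ⊗[R] S →ₐ[R] ResidueField S :=
    Algebra.TensorProduct.lift (IsScalarTower.toAlgHom R (ResidueField R) (ResidueField S))
      (IsScalarTower.toAlgHom R S (ResidueField S)) fun _ _ => Commute.all _ _
  have hnt : Nontrivial (ResidueField R ⊗[R] S) := π.toRingHom.domain_nontrivial
  have hzero : ∀ z ∈ maximalIdeal S, (1 : ResidueField R) ⊗ₜ[R] z = 0 := fun z hz => by
    rw [← hm] at hz
    induction hz using Submodule.span_induction with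
    | zero => rw [TensorProduct.tmul_zero]
    | mem w h =>
      obtain ⟨w, hw, rfl⟩ := h
      rw [Algebra.algebraMap_eq_smul_one, ← TensorProduct.smul_tmul, Algebra.smul_def, mul_one,
        ResidueField.algebraMap_eq, (residue_eq_zero_iff w).2 hw, TensorProduct.zero_tmul]
    | add a b _ _ ha hb => rw [TensorProduct.tmul_add, ha, hb, add_zero]
    | smul a b _ hb =>
      have h : (1 : ResidueField R) ⊗ₜ[R] (a • b) =
          ((1 : ResidueField R) ⊗ₜ[R] a) * ((1 : ResidueField R) ⊗ₜ[R] b) := by
        rw [Algebra.TensorProduct.tmul_mul_tmul, one_mul, smul_eq_mul]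
      rw [h, hb, mul_zero]
  have hsurj : Function.Surjective (algebraMap (ResidueField R) (ResidueField R ⊗[R] S)) := by
    intro t
    induction t using TensorProduct.induction_on with
    | zero => exact ⟨0, map_zero _⟩
    | add a b ha hb =>
      obtain ⟨a, rfl⟩ := ha
      obtain ⟨b, rfl⟩ := hb
      exact ⟨a + b, map_add _ _ _⟩
    | tmul k x =>
      obtain ⟨a, ha⟩ := hres x
      refine ⟨k * algebraMap R (ResidueField R) a, ?_⟩
      have h1 : k ⊗ₜ[R] (x - algebraMap R S a) = 0 := by
        rw [← mul_one k, show (k * 1) ⊗ₜ[R] (x - algebraMap R S a) =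
          (k ⊗ₜ[R] (1 : S)) * ((1 : ResidueField R) ⊗ₜ[R] (x - algebraMap R S a)) by
            rw [Algebra.TensorProduct.tmul_mul_tmul, one_mul], hzero _ ha, mul_zero]
      rw [TensorProduct.tmul_sub, sub_eq_zero, Algebra.algebraMap_eq_smul_one (A := S),
        ← TensorProduct.smul_tmul] at h1
      rw [h1, Algebra.TensorProduct.algebraMap_apply, Algebra.algebraMap_self, RingHom.id_apply,
        Algebra.smul_def, mul_comm]
  exact Algebra.FormallySmooth.of_equiv
    (AlgEquiv.ofBijective (Algebra.ofId (ResidueField R) (ResidueField R ⊗[R] S)) ⟨RingHom.injective _, hsurj⟩)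

/-- Points at which an algebra is flat, unramified and residually trivial are étale points. -/
theorem exists_etale_of_flat_residually_trivial {C B' Lq Lu : Type u} [CommRing C] [CommRing B'] [Algebra C B']
    [Algebra.FinitePresentation C B'] [CommRing Lq] [CommRing Lu] [IsLocalRing Lq] [IsLocalRing Lu]
    (Q : Ideal C) [Q.IsPrime] (P' : Ideal B') [P'.IsPrime] (hcomap : P'.comap (algebraMap C B') = Q)
    [Algebra C Lq] [IsLocalization.AtPrime Lq Q] [Algebra B' Lu] [IsLocalization.AtPrime Lu P']
    (fL : Lq →+* Lu) (hfL : fL.comp (algebraMap C Lq) = (algebraMap B' Lu).comp (algebraMap C B'))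
    (hflat : fL.Flat) (hm : (maximalIdeal Lq).map fL = maximalIdeal Lu)
    (hres : ∀ x : Lu, ∃ a : Lq, x - fL a ∈ maximalIdeal Lu) :
    ∃ h ∉ P', Algebra.Etale C (Localization.Away h) := by
  letI : Algebra Lq Lu := fL.toAlgebra
  letI : Algebra C Lu := ((algebraMap B' Lu).comp (algebraMap C B')).toAlgebra
  haveI : IsScalarTower C B' Lu := IsScalarTower.of_algebraMap_eq fun _ => rfl
  haveI : IsScalarTower C Lq Lu := IsScalarTower.of_algebraMap_eq fun c => (RingHom.congr_fun hfL c).symm
  haveI : Module.Flat Lq Lu := hflat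
  haveI : IsLocalHom (algebraMap Lq Lu) := ⟨fun x hx => by
    by_contra h
    exact (mem_maximalIdeal _).1 (hm.le (Ideal.mem_map_of_mem fL h)) hx⟩
  haveI : Algebra.FormallySmooth (ResidueField Lq) (ResidueField Lq ⊗[Lq] Lu) :=
    formallySmooth_closedFibre hm hres
  -- a finitely presented algebra over the localization
  let Sp := Localization (Algebra.algebraMapSubmonoid B' Q.primeCompl)
  letI : Algebra Lq Sp := (IsLocalization.map Sp (algebraMap C B') (M := Q.primeCompl) (S := Lq)
    (T := Algebra.algebraMapSubmonoid B' Q.primeCompl) (Submonoid.le_comap_map _)).toAlgebra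
  haveI : IsScalarTower C Lq Sp := IsScalarTower.of_algebraMap_eq fun c => by
    rw [RingHom.algebraMap_toAlgebra, IsLocalization.map_eq, IsScalarTower.algebraMap_apply C B' Sp]
  let θ : Sp →ₐ[B'] Lu := IsLocalization.liftAlgHom (M := Algebra.algebraMapSubmonoid B' Q.primeCompl)
    (f := Algebra.ofId _ _) (by
      rintro ⟨_, x, hx, rfl⟩
      exact IsLocalization.map_units (M := P'.primeCompl) Lu
        ⟨algebraMap C B' x, fun h => hx (hcomap.le h)⟩)
  letI : Algebra Sp Lu := θ.toRingHom.toAlgebra
  haveI : IsScalarTower B' Sp Lu := IsScalarTower.of_algebraMap_eq fun b => (θ.commutes b).symm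
  haveI : IsScalarTower C Sp Lu := IsScalarTower.to₁₃₄ C B' Sp Lu
  haveI : IsScalarTower Lq Sp Lu := IsScalarTower.of_algebraMap_eq' <| by
    apply IsLocalization.ringHom_ext Q.primeCompl
    simp only [RingHom.comp_assoc, ← IsScalarTower.algebraMap_eq]
  haveI : IsLocalization (Algebra.algebraMapSubmonoid Sp P'.primeCompl) Lu :=
    IsLocalization.isLocalization_of_submonoid_le _ _ (Algebra.algebraMapSubmonoid B' Q.primeCompl) _
      (by rintro _ ⟨x, hx, rfl⟩; exact fun h => hx (hcomap.le h))
  haveI : Algebra.FinitePresentation Lq Sp := by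
    have : Algebra.IsPushout C Lq B' Sp := .symm <| Algebra.isPushout_of_isLocalization Q.primeCompl _ _ _
    exact .equiv (Algebra.IsPushout.equiv C Lq B' Sp)
  haveI hsm : Algebra.FormallySmooth Lq Lu :=
    Algebra.FormallySmooth.of_formallySmooth_residueField_tensor (R := Lq) (S := Lu) (P := Sp)
      (Algebra.algebraMapSubmonoid Sp P'.primeCompl)
  haveI : Algebra.EssFiniteType B' Lu := Algebra.EssFiniteType.of_isLocalization Lu P'.primeCompl
  haveI : Algebra.EssFiniteType C Lu := Algebra.EssFiniteType.comp C B' Lu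
  haveI : Algebra.EssFiniteType Lq Lu := Algebra.EssFiniteType.of_comp C Lq Lu
  haveI : Algebra.IsSeparable (ResidueField Lq) (ResidueField Lu) := ⟨fun z => by
    obtain ⟨x, rfl⟩ := residue_surjective z
    obtain ⟨a, ha⟩ := hres x
    have h1 : residue Lu x = algebraMap (ResidueField Lq) (ResidueField Lu) (residue Lq a) :=
      Ideal.Quotient.eq.2 ha
    rw [h1]
    exact isSeparable_algebraMap _⟩
  haveI : Algebra.FormallyUnramified Lq Lu := Algebra.FormallyUnramified.of_map_maximalIdeal hm
  haveI : Algebra.FormallyEtale Lq Lu := Algebra.FormallyEtale.iff_formallyUnramified_and_formallySmooth.2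
    ⟨inferInstance, hsm⟩
  haveI : Algebra.FormallyEtale C Lq := Algebra.FormallyEtale.of_isLocalization Q.primeCompl
  haveI : Algebra.FormallyEtale C Lu := Algebra.FormallyEtale.comp C Lq Lu
  haveI : Algebra.IsEtaleAt C P' := Algebra.FormallyEtale.of_equiv
    ((IsLocalization.algEquiv P'.primeCompl Lu (Localization.AtPrime P')).restrictScalars C)
  exact Algebra.exists_etale_of_isEtaleAt P'

end ApproxLib
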