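import Groth.Agent.ApproxLib.SchemeApprox
import Groth.Agent.ApproxLib.EtaleCriterion
import Groth.Agent.GeomRedFibLib.CplMap
import Groth.Agent.EtStalkLib.Basic
import Groth.Agent.CatLib.CplEquiv
import Mathlib

/-!
# Common étale neighbourhoods of points with isomorphic completions
-/

set_option autoImplicit false

universe u

open CategoryTheory AlgebraicGeometry TopologicalSpace Opposite IsLocalRing

namespace ApproxLib

/-- A surjective endomorphism of a Noetherian ring is injective. -/
theorem injective_of_surjective_endo {T : Type u} [CommRing T] [IsNoetherianRing T] (h : T →+* T)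
    (hs : Function.Surjective h) : Function.Injective h := by
  have hmono : Monotone fun n => RingHom.ker (h ^ n) := monotone_nat_of_le_succ fun n x hx => by
    show (h ^ (n + 1)) x = 0
    rw [RingHom.coe_pow, Function.iterate_succ', Function.comp_apply, ← RingHom.coe_pow,
      (RingHom.mem_ker.1 hx), map_zero]
  obtain ⟨n, hn⟩ := monotone_stabilizes_iff_noetherian.2 inferInstance ⟨_, hmono⟩
  refine (injective_iff_map_eq_zero h).2 fun x hx => ?_
  obtain ⟨y, hy⟩ : ∃ y, (h ^ n) y = x := by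
    rw [RingHom.coe_pow]; exact hs.iterate n x
  have h1 : y ∈ RingHom.ker (h ^ (n + 1)) := by
    rw [RingHom.mem_ker, RingHom.coe_pow, Function.iterate_succ', Function.comp_apply, ← RingHom.coe_pow, hy, hx]
  have h2 : y ∈ RingHom.ker (h ^ n) := (hn (n + 1) (Nat.le_succ n)).ge h1
  rw [RingHom.mem_ker, hy] at h2
  exact h2

/-- A residually trivial unramified local map between rings with isomorphic completions is flat. -/
theorem flat_of_cpl_equiv {A B : Type u} [CommRing A] [CommRing B] [IsLocalRing A] [IsLocalRing B]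
    [IsNoetherianRing A] [IsNoetherianRing B] [Algebra A B] [IsLocalHom (algebraMap A B)]
    (hm : (maximalIdeal A).map (algebraMap A B) = maximalIdeal B)
    (hres : ∀ b : B, ∃ a : A, b - algebraMap A B a ∈ maximalIdeal B)
    (e : AdicCompletion (maximalIdeal A) A ≃+* AdicCompletion (maximalIdeal B) B) : Module.Flat A B := by
  obtain ⟨ψ, hψ⟩ := GeomRedFibLib.exists_cplMap A B
  have hmap : (maximalIdeal (GeomRedFibLib.Hat A)).map ψ = maximalIdeal (GeomRedFibLib.Hat B) := by
    rw [AdicCompletion.maximalIdeal_eq_map, AdicCompletion.maximalIdeal_eq_map, Ideal.map_map, hψ,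
      ← Ideal.map_map, hm]
  haveI : IsHausdorff ((maximalIdeal (GeomRedFibLib.Hat A)).map ψ) (GeomRedFibLib.Hat B) := by
    rw [hmap]; infer_instance
  have hsurj : Function.Surjective ψ := by
    refine surjective_of_mk_map_comp_surjective (I := maximalIdeal (GeomRedFibLib.Hat A)) ψ fun z => ?_
    obtain ⟨z, rfl⟩ := Ideal.Quotient.mk_surjective z
    obtain ⟨b, hb⟩ := AdicRingLib.exists_sub_mem_map_pow (IsNoetherian.noetherian (maximalIdeal B)) 1 z
    obtain ⟨a, ha⟩ := hres b
    refine ⟨algebraMap A (GeomRedFibLib.Hat A) a, (Ideal.Quotient.eq.2 ?_).symm⟩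
    rw [hmap, ← RingHom.comp_apply, hψ, RingHom.comp_apply, AdicCompletion.maximalIdeal_eq_map]
    rw [pow_one] at hb
    have h := add_mem hb (Ideal.mem_map_of_mem (algebraMap B (GeomRedFibLib.Hat B)) ha)
    rwa [map_sub, sub_add_sub_cancel] at h
  haveI := AdicRingLib.isNoetherianRing_adicCompletion (maximalIdeal A)
  have hinj := injective_of_surjective_endo (e.symm.toRingHom.comp ψ) (e.symm.surjective.comp hsurj)
  exact GeomRedFibLib.flat_of_flat_cplMap ψ hψ (RingHom.Flat.of_bijective ⟨Function.Injective.of_comp (f := e.symm) hinj, hsurj⟩)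

/-- Congruences in completions give equalities of truncations. -/
theorem evalₐ_eq_zero {A : Type u} [CommRing A] (I : Ideal A) (n : ℕ) (z : AdicCompletion I A)
    (hz : z ∈ (I ^ n).map (algebraMap A (AdicCompletion I A))) : AdicCompletion.evalₐ I n z = 0 := by
  refine (Ideal.map_le_iff_le_comap (K := RingHom.ker (AdicCompletion.evalₐ I n).toRingHom)).2 (fun w hw => ?_) hz
  show AdicCompletion.evalₐ I n (algebraMap A _ w) = 0
  rw [AlgHom.commutes, Ideal.Quotient.algebraMap_eq, Ideal.Quotient.eq_zero_iff_mem]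
  exact hw

/-- The conditions on a common étale neighbourhood, with the transports removed. -/
theorem flat_and_unramified_of_approx {A L K : Type u} [CommRing A] [CommRing L] [CommRing K] [IsLocalRing A]
    [IsLocalRing L] [IsLocalRing K] [IsNoetherianRing A] [IsNoetherianRing L] [IsNoetherianRing K]
    (fL : A →+* K) (eL : L →+* K) [IsLocalHom fL] [IsLocalHom eL] (heflat : eL.Flat)
    (hem : (maximalIdeal L).map eL = maximalIdeal K) (heres : ∀ z : K, ∃ c : L, z - eL c ∈ maximalIdeal K)
    (φ : AdicCompletion (maximalIdeal A) A ≃+* AdicCompletion (maximalIdeal L) L) {M : ℕ} (hM : 2 ≤ M)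
    (happ : ∀ b c, AdicCompletion.evalₐ (maximalIdeal L) M (φ (algebraMap A _ b)) =
      Ideal.Quotient.mk (maximalIdeal L ^ M) c → fL b - eL c ∈ maximalIdeal K ^ M) :
    fL.Flat ∧ (maximalIdeal A).map fL = maximalIdeal K ∧ ∀ z : K, ∃ b : A, z - fL b ∈ maximalIdeal K := by
  have key : ∀ c : L, ∃ b : A, fL b - eL c ∈ maximalIdeal K ^ M := fun c => by
    obtain ⟨b, hb⟩ := AdicRingLib.exists_sub_mem_map_pow (IsNoetherian.noetherian (maximalIdeal A)) M
      (φ.symm (algebraMap L _ c))
    refine ⟨b, happ b c ?_⟩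
    have h1 : algebraMap L _ c - φ (algebraMap A _ b) ∈
        (maximalIdeal L ^ M).map (algebraMap L (AdicCompletion (maximalIdeal L) L)) := by
      have h := Ideal.mem_map_of_mem φ.toRingHom hb
      rw [Ideal.map_pow, Ideal.map_pow, ← AdicCompletion.maximalIdeal_eq_map,
        map_maximalIdeal_of_surjective φ.toRingHom φ.surjective, AdicCompletion.maximalIdeal_eq_map,
        ← Ideal.map_pow, RingEquiv.toRingHom_eq_coe, RingEquiv.coe_toRingHom, map_sub,
        RingEquiv.apply_symm_apply] at h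
      exact h
    have h2 := evalₐ_eq_zero _ _ _ h1
    rw [map_sub, AlgHom.commutes, sub_eq_zero] at h2
    exact h2.symm
  have hres : ∀ z : K, ∃ b : A, z - fL b ∈ maximalIdeal K := fun z => by
    obtain ⟨c, hc⟩ := heres z
    obtain ⟨b, hb⟩ := key c
    refine ⟨b, ?_⟩
    have h := sub_mem hc (Ideal.pow_le_self (by omega) hb)
    rwa [sub_sub_sub_cancel_right] at h
  have hle : (maximalIdeal A).map fL ≤ maximalIdeal K :=
    Ideal.map_le_iff_le_comap.2 fun a ha h => (mem_maximalIdeal _).1 ha (IsLocalHom.map_nonunit a h)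
  have hm : (maximalIdeal A).map fL = maximalIdeal K := by
    refine le_antisymm hle ?_
    refine Submodule.le_of_le_smul_of_le_jacobson_bot (I := maximalIdeal K) (IsNoetherian.noetherian _)
      (maximalIdeal_le_jacobson _) ?_
    rw [smul_eq_mul]
    conv_lhs => rw [← hem]
    refine Ideal.map_le_iff_le_comap.2 fun c hc => ?_
    rw [Ideal.mem_comap]
    obtain ⟨b, hb⟩ := key c
    have hsq : fL b - eL c ∈ maximalIdeal K * maximalIdeal K := by
      rw [← pow_two]; exact Ideal.pow_le_pow_right hM hb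
    have hec : eL c ∈ maximalIdeal K := fun h => (mem_maximalIdeal _).1 hc (IsLocalHom.map_nonunit c h)
    have hbA : b ∈ maximalIdeal A := fun h => by
      have h1 := add_mem (Ideal.mul_le_left hsq) hec
      rw [sub_add_cancel] at h1
      exact h1 (h.map fL)
    rw [← sub_sub_cancel (fL b) (eL c)]
    exact sub_mem (Ideal.mem_sup_left (Ideal.mem_map_of_mem fL hbA)) (Ideal.mem_sup_right hsq)
  refine ⟨?_, hm, hres⟩
  letI : Algebra L K := eL.toAlgebra
  letI : Algebra A K := fL.toAlgebra
  haveI : Module.Flat L K := heflat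
  haveI : IsLocalHom (algebraMap L K) := ‹IsLocalHom eL›
  haveI : IsLocalHom (algebraMap A K) := ‹IsLocalHom fL›
  haveI : Module.FaithfullyFlat L K := Module.FaithfullyFlat.of_flat_of_isLocalHom
  obtain ⟨eK⟩ := CatLib.exists_cpl_equiv_of_faithfullyFlat L K hem fun n z => by
    obtain ⟨c, hc⟩ := exists_sub_mem_pow (maximalIdeal L) (fun x => by
      obtain ⟨c, hc⟩ := heres x
      exact ⟨c, by rw [show (maximalIdeal L).map (algebraMap L K) = _ from hem]; exact hc⟩) n z
    exact ⟨c, by rwa [show (maximalIdeal L).map (algebraMap L K) = _ from hem] at hc⟩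
  exact flat_of_cpl_equiv hm hres (φ.trans eK)

/-- Shrinking to an open subscheme on which a morphism is étale. -/
theorem exists_open_etale {Y U : Scheme.{u}} [IsLocallyNoetherian Y] (f : U ⟶ Y) [LocallyOfFiniteType f] (u : U)
    (hflat : (f.stalkMap u).hom.Flat)
    (hm : (maximalIdeal (Y.presheaf.stalk (f u))).map (f.stalkMap u).hom = maximalIdeal (U.presheaf.stalk u))
    (hres : ∀ z, ∃ b, z - (f.stalkMap u).hom b ∈ maximalIdeal (U.presheaf.stalk u)) :
    ∃ (U' : Scheme.{u}) (j : U' ⟶ U) (_ : IsOpenImmersion j) (u' : U'), j u' = u ∧ Etale (j ≫ f) := by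
  obtain ⟨W', hW', hyW, -⟩ := exists_isAffineOpen_mem_and_subset (x := f u) (U := ⊤) trivial
  obtain ⟨U₀, hU₀, huU, hfU⟩ := exists_isAffineOpen_mem_and_subset (x := u) (U := f ⁻¹ᵁ W') hyW
  let C := Γ(Y, W')
  let B₀ := Γ(U, U₀)
  letI : Algebra C B₀ := (f.appLE W' U₀ hfU).hom.toAlgebra
  haveI : Algebra.FiniteType C B₀ := f.finiteType_appLE hW' hU₀ hfU
  haveI : IsNoetherianRing C := IsLocallyNoetherian.component_noetherian ⟨W', hW'⟩
  haveI : Algebra.FinitePresentation C B₀ := Algebra.FinitePresentation.of_finiteType.1 inferInstance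
  letI : Algebra C (Y.presheaf.stalk (f u)) := Y.presheaf.algebra_section_stalk ⟨f u, hyW⟩
  letI : Algebra B₀ (U.presheaf.stalk u) := U.presheaf.algebra_section_stalk ⟨u, huU⟩
  haveI := hW'.isLocalization_stalk ⟨f u, hyW⟩
  haveI := hU₀.isLocalization_stalk ⟨u, huU⟩
  have hcompat : (f.stalkMap u).hom.comp (algebraMap C (Y.presheaf.stalk (f u))) =
      (algebraMap B₀ (U.presheaf.stalk u)).comp (algebraMap C B₀) := RingHom.ext fun c => by
    show (f.stalkMap u).hom (Y.presheaf.germ W' (f u) hyW c) = U.presheaf.germ U₀ u huU (f.appLE W' U₀ hfU c)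
    rw [Scheme.Hom.appLE, CommRingCat.comp_apply, TopCat.Presheaf.germ_res_apply]
    exact Scheme.Hom.germ_stalkMap_apply f W' u hyW c
  have hcomap : (hU₀.primeIdealOf ⟨u, huU⟩).asIdeal.comap (algebraMap C B₀) =
      (hW'.primeIdealOf ⟨f u, hyW⟩).asIdeal := by
    ext c
    rw [Ideal.mem_comap, ← IsLocalization.AtPrime.to_map_mem_maximal_iff (U.presheaf.stalk u)
      (hU₀.primeIdealOf ⟨u, huU⟩).asIdeal, ← IsLocalization.AtPrime.to_map_mem_maximal_iff (Y.presheaf.stalk (f u))
      (hW'.primeIdealOf ⟨f u, hyW⟩).asIdeal, ← RingHom.comp_apply (algebraMap B₀ (U.presheaf.stalk u)), ← hcompat,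
      RingHom.comp_apply, mem_maximalIdeal, mem_maximalIdeal, map_mem_nonunits_iff]
  obtain ⟨h, hh, het⟩ := exists_etale_of_flat_residually_trivial (hW'.primeIdealOf ⟨f u, hyW⟩).asIdeal
    (hU₀.primeIdealOf ⟨u, huU⟩).asIdeal hcomap (f.stalkMap u).hom hcompat hflat hm hres
  let U₁ := U.basicOpen h
  have huU₁ : u ∈ U₁ := by
    rw [U.mem_basicOpen h u huU]
    exact IsLocalization.map_units (U.presheaf.stalk u) (⟨h, hh⟩ : (hU₀.primeIdealOf ⟨u, huU⟩).asIdeal.primeCompl)
  have hU₁ : IsAffineOpen U₁ := hU₀.basicOpen h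
  have hle : U₁ ≤ f ⁻¹ᵁ W' := (U.basicOpen_le h).trans hfU
  haveI := hU₀.isLocalization_basicOpen h
  have hEt : (f.appLE W' U₁ hle).hom.Etale := by
    letI : Algebra C Γ(U, U₁) := ((algebraMap B₀ Γ(U, U₁)).comp (algebraMap C B₀)).toAlgebra
    haveI : IsScalarTower C B₀ Γ(U, U₁) := IsScalarTower.of_algebraMap_eq fun _ => rfl
    have h2 : Algebra.Etale C Γ(U, U₁) :=
      Algebra.Etale.of_equiv ((IsLocalization.algEquiv (Submonoid.powers h) (Localization.Away h) Γ(U, U₁)).restrictScalars C)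
    have h3 : (f.appLE W' U₁ hle).hom = algebraMap C Γ(U, U₁) := by
      rw [← f.appLE_map hfU (homOfLE (U.basicOpen_le h)).op]
      rfl
    rw [h3]
    exact RingHom.etale_algebraMap.2 h2
  refine ⟨Spec Γ(U, U₁), hU₁.fromSpec, inferInstance, hU₁.primeIdealOf ⟨u, huU₁⟩,
    hU₁.fromSpec_primeIdealOf ⟨u, huU₁⟩, ?_⟩
  rw [← IsAffineOpen.SpecMap_appLE_fromSpec f hW' hU₁ hle]
  haveI : Etale (Spec.map (f.appLE W' U₁ hle)) := (HasRingHomProperty.Spec_iff (P := @Etale)).2 hEt
  infer_instance

end ApproxLib
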