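import Groth.Agent.ApproxLib.ColimFP

/-!
# Functors on algebras preserving filtered colimits
-/

set_option autoImplicit false

universe u

open CategoryTheory CategoryTheory.Limits

namespace ApproxLib

variable {A : Type u} [CommRing A] (F : CommAlgCat.{u} A ⥤ Type u) [PreservesFilteredColimitsOfSize.{u, u} F]

/-- The functor on rings under `A` associated to a functor on `A`-algebras. -/
noncomputable def underFunctor : Under (CommRingCat.of A) ⥤ Type u :=
  (commAlgCatEquivUnder (CommRingCat.of A)).inverse ⋙ F

theorem preservesColimitsOfShape_underFunctor (J : Type u) [SmallCategory J] [IsFiltered J] :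
    PreservesColimitsOfShape J (underFunctor F) := by
  have : PreservesColimitsOfShape J F := PreservesFilteredColimitsOfSize.preserves_filtered_colimits J
  exact comp_preservesColimitsOfShape (commAlgCatEquivUnder (CommRingCat.of A)).inverse F

/-- Transport of elements to rings under `A`. -/
noncomputable def toUnderElt (B : Type u) [CommRing B] [Algebra A B] (ξ : F.obj (CommAlgCat.of A B)) :
    (underFunctor F).obj (CommRingCat.mkUnder (CommRingCat.of A) B) :=
  F.map ((commAlgCatEquivUnder (CommRingCat.of A)).unit.app (CommAlgCat.of A B)) ξ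

/-- Transport of elements from rings under `A`. -/
noncomputable def ofUnderElt (B : Type u) [CommRing B] [Algebra A B]
    (ξ : (underFunctor F).obj (CommRingCat.mkUnder (CommRingCat.of A) B)) : F.obj (CommAlgCat.of A B) :=
  F.map ((commAlgCatEquivUnder (CommRingCat.of A)).unitInv.app (CommAlgCat.of A B)) ξ

theorem ofUnderElt_toUnderElt (B : Type u) [CommRing B] [Algebra A B] (ξ : F.obj (CommAlgCat.of A B)) :
    ofUnderElt F B (toUnderElt F B ξ) = ξ := by
  refine (FunctorToTypes.map_comp_apply F _ _ ξ).symm.trans ?_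
  show F.map ((commAlgCatEquivUnder (CommRingCat.of A)).unitIso.hom.app _ ≫
    (commAlgCatEquivUnder (CommRingCat.of A)).unitIso.inv.app _) ξ = ξ
  rw [Iso.hom_inv_id_app]
  exact FunctorToTypes.map_id_apply F ξ

theorem map_toUnderElt {B C : Type u} [CommRing B] [Algebra A B] [CommRing C] [Algebra A C] (g : B →ₐ[A] C)
    (ξ : F.obj (CommAlgCat.of A B)) :
    toUnderElt F C (F.map (CommAlgCat.ofHom g) ξ) = (underFunctor F).map g.toUnder (toUnderElt F B ξ) := by
  refine (FunctorToTypes.map_comp_apply F _ _ ξ).symm.trans ?_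
  refine Eq.trans ?_ (FunctorToTypes.map_comp_apply F _ _ ξ)
  exact congrArg (fun m => F.map m ξ) ((commAlgCatEquivUnder (CommRingCat.of A)).unit.naturality (CommAlgCat.ofHom g))

theorem map_ofUnderElt {B C : Type u} [CommRing B] [Algebra A B] [CommRing C] [Algebra A C] (g : B →ₐ[A] C)
    (ξ : (underFunctor F).obj (CommRingCat.mkUnder (CommRingCat.of A) B)) :
    ofUnderElt F C ((underFunctor F).map g.toUnder ξ) = F.map (CommAlgCat.ofHom g) (ofUnderElt F B ξ) := by
  refine (FunctorToTypes.map_comp_apply F _ _ ξ).symm.trans ?_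
  refine Eq.trans ?_ (FunctorToTypes.map_comp_apply F _ _ ξ)
  exact congrArg (fun m => F.map m ξ)
    ((commAlgCatEquivUnder (CommRingCat.of A)).unitInv.naturality (CommAlgCat.ofHom g))

/-- Elements at an algebra come from finitely presented algebras. -/
theorem exists_fp_lift_alg (B : Type u) [CommRing B] [Algebra A B] (ξ : F.obj (CommAlgCat.of A B)) :
    ∃ (D : Type u) (_ : CommRing D) (_ : Algebra A D) (_ : Algebra.FinitePresentation A D) (g : D →ₐ[A] B)
      (x : F.obj (CommAlgCat.of A D)), F.map (CommAlgCat.ofHom g) x = ξ := by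
  obtain ⟨D, _, _, hD, g, x, hx⟩ :=
    exists_fp_lift (underFunctor F) (fun J _ _ => preservesColimitsOfShape_underFunctor F J) B (toUnderElt F B ξ)
  refine ⟨D, inferInstance, inferInstance, hD, g, ofUnderElt F D x, ?_⟩
  rw [← map_ofUnderElt, hx, ofUnderElt_toUnderElt]

/-- Elements at a finitely presented algebra with the same image in an algebra agree at a finitely presented stage. -/
theorem exists_fp_eq_alg (B : Type u) [CommRing B] [Algebra A B] (D₀ : Type u) [CommRing D₀] [Algebra A D₀]
    [Algebra.FinitePresentation A D₀] (g₀ : D₀ →ₐ[A] B) (x y : F.obj (CommAlgCat.of A D₀))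
    (h : F.map (CommAlgCat.ofHom g₀) x = F.map (CommAlgCat.ofHom g₀) y) :
    ∃ (D : Type u) (_ : CommRing D) (_ : Algebra A D) (_ : Algebra.FinitePresentation A D) (d : D₀ →ₐ[A] D)
      (g : D →ₐ[A] B), g.comp d = g₀ ∧ F.map (CommAlgCat.ofHom d) x = F.map (CommAlgCat.ofHom d) y := by
  obtain ⟨D, _, _, hD, d, g, hdg, he⟩ := exists_fp_eq (underFunctor F)
    (fun J _ _ => preservesColimitsOfShape_underFunctor F J) B D₀ g₀ (toUnderElt F D₀ x) (toUnderElt F D₀ y)
    (by rw [← map_toUnderElt, ← map_toUnderElt, h])
  refine ⟨D, inferInstance, inferInstance, hD, d, g, hdg, ?_⟩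
  have h2 := congrArg (ofUnderElt F D) he
  rwa [map_ofUnderElt, map_ofUnderElt, ofUnderElt_toUnderElt, ofUnderElt_toUnderElt] at h2

end ApproxLib
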