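import Groth.Agent.TransLib.EtaleApprox
import Groth.Agent.TransLib.GRingLocal
import Groth.Agent.AdicRingLib.Completion
import Mathlib

/-!
# Approximating homomorphisms into completions on étale algebras
-/

set_option autoImplicit false

universe u

open IsLocalRing

namespace ApproxLib

/-- Homomorphisms from finitely presented algebras into complete local rings, ind-smooth with dense base, factor
approximately through étale algebras. -/
theorem exists_etale_approx_hom {R T : Type u} [CommRing R] [CommRing T] [IsLocalRing T] [Algebra R T]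
    [IsAdicComplete (maximalIdeal T) T] (hind : Smoothing.IndSmooth R T)
    (hdense : ∀ (y : T) (N : ℕ), ∃ r s : R, IsUnit (algebraMap R T s) ∧
      algebraMap R T s * y - algebraMap R T r ∈ maximalIdeal T ^ N)
    {B : Type u} [CommRing B] [Algebra R B] [Algebra.FinitePresentation R B] (f : B →ₐ[R] T) (N : ℕ) :
    ∃ (R' : Type u) (_ : CommRing R') (_ : Algebra R R'), Algebra.Etale R R' ∧
      ∃ (ψ : R' →ₐ[R] T) (g : B →ₐ[R] R'), ∀ b, f b - ψ (g b) ∈ maximalIdeal T ^ N := by
  classical
  obtain ⟨n, φ, hφ, hker⟩ := Algebra.FinitePresentation.out (R := R) (A := B)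
  obtain ⟨l, gen, hgen⟩ := Submodule.fg_iff_exists_fin_generating_family.1 hker
  have hmem : ∀ i, φ (gen i) = 0 := fun i => (hgen.le (Submodule.subset_span (Set.mem_range_self i)) :)
  have hfφ : (MvPolynomial.aeval fun j => f (φ (MvPolynomial.X j))) = f.comp φ :=
    MvPolynomial.algHom_ext fun j => MvPolynomial.aeval_X _ j
  obtain ⟨R', _, _, hR', ψ, b, hb, hab⟩ := TransLib.exists_etale_approx hind hdense gen
    (fun j => f (φ (MvPolynomial.X j))) (fun i => by rw [hfφ, AlgHom.comp_apply, hmem, map_zero]) N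
  have hz : ∀ x, φ x = 0 → MvPolynomial.aeval b x = 0 := fun x hx => by
    have hxmem : x ∈ Submodule.span (MvPolynomial (Fin n) R) (Set.range gen) := hgen.ge hx
    exact (Ideal.span_le (I := RingHom.ker (MvPolynomial.aeval (R := R) b))).2 (by
      rintro _ ⟨i, rfl⟩
      exact hb i) hxmem
  refine ⟨R', inferInstance, inferInstance, hR', ψ,
    AlgHom.liftOfSurjective φ hφ (MvPolynomial.aeval b) fun x hx => hz x hx, fun y => ?_⟩
  obtain ⟨p, rfl⟩ := hφ y
  rw [← AlgHom.comp_apply _ φ, ← AlgHom.comp_apply _ φ, AlgHom.liftOfSurjective_comp]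
  refine Ideal.Quotient.eq.1 ?_
  show ((Ideal.Quotient.mkₐ R (maximalIdeal T ^ N)).comp (f.comp φ)) p =
    ((Ideal.Quotient.mkₐ R (maximalIdeal T ^ N)).comp (ψ.comp (MvPolynomial.aeval b))) p
  refine DFunLike.congr_fun (MvPolynomial.algHom_ext fun j => ?_) p
  simp only [AlgHom.comp_apply, MvPolynomial.aeval_X]
  exact Ideal.Quotient.eq.2 (hab j)

end ApproxLib
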