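import Groth.Agent.ApproxLib.LocalApprox
import Groth.Agent.ApproxLib.EtaleCriterion
import Groth.Agent.ApproxLib.CommonNbhd
import Mathlib

/-!
# Common étale neighbourhoods of points with isomorphic completions, for rings
-/

set_option autoImplicit false

universe u

open IsLocalRing TensorProduct

namespace ApproxLib

/-- Points of finite type algebras with isomorphic completions have a common étale neighbourhood. -/
theorem exists_common_etale_ring {T BT CT L LY : Type u} [CommRing T] [IsNoetherianRing T] [CommRing BT] [Algebra T BT]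
    [Algebra.FiniteType T BT] [CommRing CT] [Algebra T CT] [Algebra.FiniteType T CT]
    [CommRing L] [IsLocalRing L] [IsNoetherianRing L] [Algebra BT L] (P : Ideal BT) [P.IsPrime] [IsLocalization.AtPrime L P]
    [CommRing LY] [IsLocalRing LY] [Algebra CT LY] (Q : Ideal CT) [Q.IsPrime] [IsLocalization.AtPrime LY Q]
    (hG : CAlg.IsGRing L) (φ : AdicCompletion (maximalIdeal LY) LY ≃+* AdicCompletion (maximalIdeal L) L)
    (hφ : ∀ t : T, φ (algebraMap LY _ (algebraMap CT LY (algebraMap T CT t))) =
      algebraMap L _ (algebraMap BT L (algebraMap T BT t))) :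
    ∃ (E : Type u) (_ : CommRing E) (_ : Algebra T E) (u : BT →ₐ[T] E) (u' : CT →ₐ[T] E),
      u.toRingHom.Etale ∧ u'.toRingHom.Etale ∧
      ∃ (K : Type u) (_ : Field K) (π : E →+* K) (ι : ResidueField L →+* K), Function.Surjective ι ∧
        (∀ b, π (u b) = ι (residue L (algebraMap BT L b))) ∧
        ∀ (c : CT) (l : L), φ (algebraMap LY _ (algebraMap CT LY c)) -
            algebraMap L (AdicCompletion (maximalIdeal L) L) l ∈
              maximalIdeal (AdicCompletion (maximalIdeal L) L) →
          π (u' c) = ι (residue L l) := by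
  haveI : IsNoetherianRing BT := Algebra.FiniteType.isNoetherianRing T BT
  haveI : IsNoetherianRing CT := Algebra.FiniteType.isNoetherianRing T CT
  haveI : IsNoetherianRing LY := IsLocalization.isNoetherianRing Q.primeCompl LY inferInstance
  let Th := AdicCompletion (maximalIdeal L) L
  haveI : IsNoetherianRing Th := AdicRingLib.isNoetherianRing_adicCompletion _
  have hfg : (maximalIdeal L).FG := IsNoetherian.noetherian _
  have hmTh : maximalIdeal Th = (maximalIdeal L).map (algebraMap L Th) := AdicCompletion.maximalIdeal_eq_map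
  haveI : Algebra.FinitePresentation T CT := Algebra.FinitePresentation.of_finiteType.1 inferInstance
  letI : Algebra T L := ((algebraMap BT L).comp (algebraMap T BT)).toAlgebra
  haveI : IsScalarTower T BT L := IsScalarTower.of_algebraMap_eq fun _ => rfl
  let f₀ : CT →ₐ[T] Th :=
    { φ.toRingHom.comp ((algebraMap LY _).comp (algebraMap CT LY)) with
      commutes' := fun t => by
        refine (hφ t).trans ?_
        rw [IsScalarTower.algebraMap_apply T L Th, IsScalarTower.algebraMap_apply T BT L] }
  let fD : BT ⊗[T] CT →ₐ[BT] Th := Algebra.TensorProduct.lift (Algebra.ofId BT Th) f₀ fun _ _ => Commute.all _ _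
  have hfD : ∀ c : CT, fD ((1 : BT) ⊗ₜ[T] c) = φ (algebraMap LY _ (algebraMap CT LY c)) := fun c => by
    show Algebra.TensorProduct.lift (Algebra.ofId BT Th) f₀ _ ((1 : BT) ⊗ₜ[T] c) = _
    rw [Algebra.TensorProduct.lift_tmul, map_one, one_mul]
    rfl
  obtain ⟨B', _, _, hB', g, P', hP', hcomap, hgmem, hlocal⟩ := exists_local_approx P hG fD (show 1 ≤ 2 by norm_num)
  let gC : CT →+* B' := g.toRingHom.comp (Algebra.TensorProduct.includeRight : CT →ₐ[T] BT ⊗[T] CT).toRingHom
  let L' := Localization.AtPrime P'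
  let κ : L →+* L' := IsLocalization.lift (M := P.primeCompl) (g := (algebraMap B' L').comp (algebraMap BT B'))
    fun s => IsLocalization.map_units (M := P'.primeCompl) L' ⟨algebraMap BT B' s, fun h => s.2 (hcomap.le h)⟩
  have hκ : κ.comp (algebraMap BT L) = (algebraMap B' L').comp (algebraMap BT B') :=
    IsLocalization.lift_comp _
  obtain ⟨hsurj, hcongr⟩ := hlocal L' κ hκ
  have hQ : ∀ c : CT, gC c ∈ P' ↔ c ∈ Q := fun c => by
    show g ((1 : BT) ⊗ₜ[T] c) ∈ P' ↔ _
    rw [hgmem, hfD, ← IsLocalization.AtPrime.to_map_mem_maximal_iff LY Q c]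
    constructor
    · intro h
      by_contra h'
      exact h (((notMem_maximalIdeal.1 h').map (algebraMap LY _)).map φ)
    · intro h
      rw [← map_maximalIdeal_of_surjective φ.toRingHom φ.surjective]
      refine Ideal.mem_map_of_mem φ.toRingHom ?_
      rw [AdicCompletion.maximalIdeal_eq_map]
      exact Ideal.mem_map_of_mem _ h
  let fL : LY →+* L' := IsLocalization.lift (M := Q.primeCompl) (g := (algebraMap B' L').comp gC)
    fun s => IsLocalization.map_units (M := P'.primeCompl) L' ⟨gC s, fun h => s.2 ((hQ s).1 h)⟩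
  have hfL : fL.comp (algebraMap CT LY) = (algebraMap B' L').comp gC := IsLocalization.lift_comp _
  have hmκ : (maximalIdeal L).map κ = maximalIdeal L' := map_maximalIdeal_eq P P' hcomap κ hκ
  haveI : IsLocalHom κ := ⟨fun x hx => by
    by_contra h
    exact map_mem_maximalIdeal P P' hcomap κ hκ x h hx⟩
  haveI : IsLocalHom fL := ⟨fun x hx => by
    obtain ⟨c, s, rfl⟩ := IsLocalization.exists_mk'_eq Q.primeCompl x
    refine (IsLocalization.AtPrime.isUnit_mk'_iff LY Q c s).2 fun hc => ?_
    have h1 : algebraMap B' L' (gC c) ∈ maximalIdeal L' :=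
      (IsLocalization.AtPrime.to_map_mem_maximal_iff L' P' _).2 ((hQ c).2 hc)
    rw [← RingHom.comp_apply, ← hfL, RingHom.comp_apply, ← IsLocalization.mk'_spec LY c s, map_mul] at h1
    exact h1 (hx.mul ((IsLocalization.map_units LY s).map fL))⟩
  haveI : IsNoetherianRing B' := Algebra.FiniteType.isNoetherianRing BT B'
  haveI : IsNoetherianRing L' := IsLocalization.isNoetherianRing P'.primeCompl L' inferInstance
  have hflatκ : κ.Flat := by
    letI : Algebra L L' := κ.toAlgebra
    haveI : IsScalarTower BT L L' := IsScalarTower.of_algebraMap_eq (R := BT) (S := L) (A := L') fun b => by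
      rw [IsScalarTower.algebraMap_apply BT B' L']
      exact (RingHom.congr_fun hκ b).symm
    haveI : Module.Flat B' L' := IsLocalization.flat L' P'.primeCompl
    haveI : Module.Flat BT L' := Module.Flat.trans BT B' L'
    exact (Module.flat_iff_of_isLocalization L P.primeCompl L').2 inferInstance
  have happ : ∀ b l, AdicCompletion.evalₐ (maximalIdeal L) 2 (φ (algebraMap LY _ b)) =
      Ideal.Quotient.mk (maximalIdeal L ^ 2) l → fL b - κ l ∈ maximalIdeal L' ^ 2 := by
    intro b l hbl
    obtain ⟨c₁, c₂, rfl⟩ := IsLocalization.exists_mk'_eq Q.primeCompl b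
    set z := IsLocalization.mk' LY c₁ c₂ with hz
    obtain ⟨e₁, he₁⟩ := Ideal.Quotient.mk_surjective (AdicCompletion.evalₐ (maximalIdeal L) 2 (fD ((1 : BT) ⊗ₜ[T] c₁)))
    obtain ⟨e₂, he₂⟩ := Ideal.Quotient.mk_surjective
      (AdicCompletion.evalₐ (maximalIdeal L) 2 (fD ((1 : BT) ⊗ₜ[T] (c₂ : CT))))
    have d₁ := hcongr _ _ he₁.symm
    have d₂ := hcongr _ _ he₂.symm
    have hg : ∀ c' : CT, fL (algebraMap CT LY c') = algebraMap B' L' (g ((1 : BT) ⊗ₜ[T] c')) :=
      fun c' => RingHom.congr_fun hfL c'
    rw [← hg] at d₁ d₂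
    have hspec : z * algebraMap CT LY c₂ = algebraMap CT LY c₁ := IsLocalization.mk'_spec _ _ _
    have hdiff : e₁ - l * e₂ ∈ maximalIdeal L ^ 2 := by
      refine Ideal.Quotient.eq.1 ?_
      rw [map_mul, he₁, he₂, ← hbl, hfD, hfD, ← map_mul, ← map_mul, ← map_mul, hspec]
    have hκ2 : κ (e₁ - l * e₂) ∈ maximalIdeal L' ^ 2 := by
      rw [← hmκ, ← Ideal.map_pow]
      exact Ideal.mem_map_of_mem κ hdiff
    refine (Ideal.mul_unit_mem_iff_mem _ ((IsLocalization.map_units LY c₂).map fL)).1 ?_
    have key : (fL z - κ l) * fL (algebraMap CT LY c₂) = (fL (algebraMap CT LY c₁) - κ e₁) + κ (e₁ - l * e₂) -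
        κ l * (fL (algebraMap CT LY c₂) - κ e₂) := by
      rw [← hspec, map_mul fL, map_sub κ, map_mul κ]; ring
    rw [key]
    exact sub_mem (add_mem d₁ hκ2) (Ideal.mul_mem_left _ _ d₂)
  obtain ⟨hflat, hm, hres⟩ := flat_and_unramified_of_approx fL κ hflatκ hmκ hsurj φ le_rfl happ
  letI : Algebra CT B' := gC.toAlgebra
  letI : Algebra T B' := ((algebraMap BT B').comp (algebraMap T BT)).toAlgebra
  haveI : IsScalarTower T BT B' := IsScalarTower.of_algebraMap_eq fun _ => rfl
  have hgT : ∀ t, gC (algebraMap T CT t) = algebraMap T B' t := fun t => by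
    show g ((1 : BT) ⊗ₜ[T] algebraMap T CT t) = algebraMap BT B' (algebraMap T BT t)
    rw [← g.commutes]
    refine congrArg g ?_
    rw [Algebra.TensorProduct.algebraMap_apply, Algebra.algebraMap_self, RingHom.id_apply]
    exact (Algebra.TensorProduct.tmul_one_eq_one_tmul t).symm
  haveI : IsScalarTower T CT B' := IsScalarTower.of_algebraMap_eq fun t => (hgT t).symm
  haveI : Algebra.FiniteType T B' := Algebra.FiniteType.trans (inferInstance : Algebra.FiniteType T BT) inferInstance
  haveI : Algebra.FiniteType CT B' := Algebra.FiniteType.of_restrictScalars_finiteType T CT B'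
  haveI : Algebra.FinitePresentation CT B' := Algebra.FinitePresentation.of_finiteType.1 inferInstance
  obtain ⟨h, hh, hetC⟩ := exists_etale_of_flat_residually_trivial Q P'
    (by ext c; exact hQ c) fL hfL hflat hm hres
  let E := Localization.Away h
  let u : BT →ₐ[T] E := IsScalarTower.toAlgHom T BT E
  let u' : CT →ₐ[T] E := IsScalarTower.toAlgHom T CT E
  let π : E →+* ResidueField L' := IsLocalization.Away.lift h (g := (residue L').comp (algebraMap B' L'))
    ((IsLocalization.map_units (M := P'.primeCompl) L' ⟨h, hh⟩).map (residue L'))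
  refine ⟨E, inferInstance, inferInstance, u, u', ?_, ?_, ResidueField L', inferInstance, π, ResidueField.map κ,
    fun z => ?_, fun b => ?_, fun c l hcl => ?_⟩
  · exact RingHom.etale_algebraMap.2 (Algebra.Etale.comp BT B' E)
  · exact RingHom.etale_algebraMap.2 hetC
  · obtain ⟨x, rfl⟩ := residue_surjective z
    obtain ⟨l, hl⟩ := hsurj x
    exact ⟨residue L l, (Ideal.Quotient.eq.2 hl).symm⟩
  · show π (algebraMap BT E b) = residue L' (κ (algebraMap BT L b))
    rw [IsScalarTower.algebraMap_apply BT B' E, IsLocalization.Away.lift_eq, ← RingHom.comp_apply κ, hκ]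
    rfl
  · show π (algebraMap CT E c) = residue L' (κ l)
    rw [IsScalarTower.algebraMap_apply CT B' E, IsLocalization.Away.lift_eq]
    refine Ideal.Quotient.eq.2 ?_
    obtain ⟨e, he⟩ := Ideal.Quotient.mk_surjective (AdicCompletion.evalₐ (maximalIdeal L) 2 (fD ((1 : BT) ⊗ₜ[T] c)))
    have d := Ideal.pow_le_self (n := 2) (by norm_num) (hcongr _ _ he.symm)
    have hel : e - l ∈ maximalIdeal L := by
      by_contra hu
      have h2 : φ (algebraMap LY _ (algebraMap CT LY c)) - algebraMap L Th e ∈ maximalIdeal Th := by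
        rw [← hfD]
        obtain ⟨w, hw⟩ := AdicRingLib.exists_sub_mem_map_pow hfg 2 (fD ((1 : BT) ⊗ₜ[T] c))
        have h0 := evalₐ_eq_zero _ _ _ hw
        rw [map_sub, AlgHom.commutes, ← he, Ideal.Quotient.algebraMap_eq, sub_eq_zero, Ideal.Quotient.eq] at h0
        have h3 := sub_mem hw (Ideal.mem_map_of_mem (algebraMap L Th) h0)
        rw [map_sub, sub_sub, add_comm, sub_add_cancel, Ideal.map_pow, ← hmTh] at h3
        exact Ideal.pow_le_self (n := 2) (by norm_num) h3
      have h4 := sub_mem hcl h2
      rw [sub_sub_sub_cancel_left, ← map_sub] at h4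
      exact h4 ((notMem_maximalIdeal.1 hu).map _)
    show algebraMap B' L' (g ((1 : BT) ⊗ₜ[T] c)) - κ l ∈ maximalIdeal L'
    have h5 := add_mem d (map_mem_maximalIdeal P P' hcomap κ hκ _ hel)
    rw [map_sub, sub_add_sub_cancel] at h5
    exact h5

end ApproxLib
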