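import Groth.Agent.ApproxLib.CommonNbhd
import Mathlib

/-!
# Completions of local rings after base change to the completion of the base
-/

set_option autoImplicit false

universe u

open IsLocalRing TensorProduct

namespace ApproxLib

/-- A flat unramified residually trivial local map induces an isomorphism of completions. -/
theorem exists_cplMap_bijective {A B : Type u} [CommRing A] [CommRing B] [IsLocalRing A] [IsLocalRing B]
    [IsNoetherianRing A] [IsNoetherianRing B] [Algebra A B] [IsLocalHom (algebraMap A B)] [Module.Flat A B]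
    (hm : (maximalIdeal A).map (algebraMap A B) = maximalIdeal B)
    (hres : ∀ b : B, ∃ a : A, b - algebraMap A B a ∈ maximalIdeal B) :
    ∃ e : AdicCompletion (maximalIdeal A) A ≃+* AdicCompletion (maximalIdeal B) B,
      ∀ a, e (algebraMap A _ a) = algebraMap B _ (algebraMap A B a) := by
  haveI : Module.FaithfullyFlat A B := Module.FaithfullyFlat.of_flat_of_isLocalHom
  obtain ⟨e₀⟩ := CatLib.exists_cpl_equiv_of_faithfullyFlat A B hm fun n z => by
    obtain ⟨c, hc⟩ := exists_sub_mem_pow (maximalIdeal A) (fun x => by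
      obtain ⟨c, hc⟩ := hres x
      exact ⟨c, by rw [hm]; exact hc⟩) n z
    exact ⟨c, by rwa [hm] at hc⟩
  obtain ⟨ψ, hψ⟩ := GeomRedFibLib.exists_cplMap A B
  haveI := AdicRingLib.isNoetherianRing_adicCompletion (maximalIdeal A)
  have hmap : (maximalIdeal (GeomRedFibLib.Hat A)).map ψ = maximalIdeal (GeomRedFibLib.Hat B) := by
    rw [AdicCompletion.maximalIdeal_eq_map, AdicCompletion.maximalIdeal_eq_map, Ideal.map_map, hψ,
      ← Ideal.map_map, hm]
  haveI : IsHausdorff ((maximalIdeal (GeomRedFibLib.Hat A)).map ψ) (GeomRedFibLib.Hat B) := by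
    rw [hmap]; infer_instance
  have hsurj : Function.Surjective ψ := by
    refine surjective_of_mk_map_comp_surjective (I := maximalIdeal (GeomRedFibLib.Hat A)) ψ fun z => ?_
    obtain ⟨z, rfl⟩ := Ideal.Quotient.mk_surjective z
    obtain ⟨b, hb⟩ := AdicRingLib.exists_sub_mem_map_pow (IsNoetherian.noetherian (maximalIdeal B)) 1 z
    obtain ⟨a, ha⟩ := hres b
    refine ⟨algebraMap A (GeomRedFibLib.Hat A) a, (Ideal.Quotient.eq.2 ?_).symm⟩
    rw [hmap, ← RingHom.comp_apply, hψ, RingHom.comp_apply, AdicCompletion.maximalIdeal_eq_map]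
    rw [pow_one] at hb
    have h := add_mem hb (Ideal.mem_map_of_mem (algebraMap B (GeomRedFibLib.Hat B)) ha)
    rwa [map_sub, sub_add_sub_cancel] at h
  have hinj : Function.Injective ψ := Function.Injective.of_comp (f := e₀.symm)
    (injective_of_surjective_endo (e₀.symm.toRingHom.comp ψ) (e₀.symm.surjective.comp hsurj))
  exact ⟨RingEquiv.ofBijective ψ ⟨hinj, hsurj⟩, fun a => RingHom.congr_fun hψ a⟩

/-- The point over the closed point in the base change to the completion of the local ring of the base. -/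
theorem exists_prime_baseChange {R Rs B Lx : Type u} [CommRing R] [IsNoetherianRing R] (p : Ideal R) [p.IsPrime]
    [CommRing Rs] [IsLocalRing Rs] [Algebra R Rs] [IsLocalization.AtPrime Rs p]
    [CommRing B] [Algebra R B] [Algebra.FiniteType R B] (P : Ideal B) [P.IsPrime]
    [CommRing Lx] [IsLocalRing Lx] [Algebra B Lx] [IsLocalization.AtPrime Lx P]
    (ρ : Rs →+* Lx) [IsLocalHom ρ] (hρ : ρ.comp (algebraMap R Rs) = (algebraMap B Lx).comp (algebraMap R B)) :
    ∃ (P' : Ideal (AdicCompletion (maximalIdeal Rs) Rs ⊗[R] B)) (_ : P'.IsPrime),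
      (∀ b : B, (1 : AdicCompletion (maximalIdeal Rs) Rs) ⊗ₜ[R] b ∈ P' ↔ b ∈ P) ∧
      ∀ (L : Type u) [CommRing L] [IsLocalRing L] [IsNoetherianRing L]
        [Algebra (AdicCompletion (maximalIdeal Rs) Rs ⊗[R] B) L] [IsLocalization.AtPrime L P']
        [IsNoetherianRing Lx],
        ∃ ξ : Lx →+* L,
          (∀ b : B, ξ (algebraMap B Lx b) =
            algebraMap (AdicCompletion (maximalIdeal Rs) Rs ⊗[R] B) L ((1 : AdicCompletion (maximalIdeal Rs) Rs) ⊗ₜ[R] b)) ∧
          (∀ z : L, ∃ c : Lx, z - ξ c ∈ maximalIdeal L) ∧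
          (∀ r : Rs, ξ (ρ r) = algebraMap (AdicCompletion (maximalIdeal Rs) Rs ⊗[R] B) L
            (algebraMap Rs (AdicCompletion (maximalIdeal Rs) Rs) r ⊗ₜ[R] 1)) ∧
          ∃ e : AdicCompletion (maximalIdeal Lx) Lx ≃+* AdicCompletion (maximalIdeal L) L,
            ∀ a, e (algebraMap Lx _ a) = algebraMap L _ (ξ a) := by
  haveI : IsNoetherianRing Rs := IsLocalization.isNoetherianRing p.primeCompl Rs inferInstance
  let T := AdicCompletion (maximalIdeal Rs) Rs
  haveI : IsNoetherianRing T := AdicRingLib.isNoetherianRing_adicCompletion _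
  letI : Algebra R Lx := ((algebraMap B Lx).comp (algebraMap R B)).toAlgebra
  haveI : IsScalarTower R B Lx := IsScalarTower.of_algebraMap_eq fun _ => rfl
  let χ₀ : T →+* ResidueField Lx := (ResidueField.map ρ).comp (AdicCompletion.evalOneₐ (maximalIdeal Rs)).toRingHom
  have hχρ : ∀ r : Rs, χ₀ (algebraMap Rs T r) = residue Lx (ρ r) := fun r => by
    show ResidueField.map ρ (AdicCompletion.evalOneₐ (maximalIdeal Rs) (algebraMap Rs T r)) = _
    rw [AlgHom.commutes]
    rfl
  let χ : T →ₐ[R] ResidueField Lx :=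
    { χ₀ with
      commutes' := fun r => by
        show χ₀ (algebraMap R T r) = _
        rw [IsScalarTower.algebraMap_apply R Rs T, hχρ, ← RingHom.comp_apply ρ, hρ]
        rfl }
  let ω : T ⊗[R] B →ₐ[R] ResidueField Lx :=
    Algebra.TensorProduct.lift χ ((IsScalarTower.toAlgHom R Lx (ResidueField Lx)).comp (IsScalarTower.toAlgHom R B Lx))
      fun _ _ => Commute.all _ _
  have hω : ∀ (t : T) (b : B), ω (t ⊗ₜ[R] b) = χ₀ t * residue Lx (algebraMap B Lx b) := fun t b =>
    Algebra.TensorProduct.lift_tmul _ _ _ t b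
  let P' : Ideal (T ⊗[R] B) := RingHom.ker ω.toRingHom
  haveI : P'.IsPrime := RingHom.ker_isPrime _
  have hP' : ∀ b : B, (1 : T) ⊗ₜ[R] b ∈ P' ↔ b ∈ P := fun b => by
    show ω ((1 : T) ⊗ₜ[R] b) = 0 ↔ _
    rw [hω, map_one, one_mul, residue_eq_zero_iff]
    exact IsLocalization.AtPrime.to_map_mem_maximal_iff Lx P b
  refine ⟨P', inferInstance, hP', fun L _ _ _ _ _ _ => ?_⟩
  let BT := T ⊗[R] B
  let ξ : Lx →+* L := IsLocalization.lift (M := P.primeCompl)
    (g := (algebraMap BT L).comp (Algebra.TensorProduct.includeRight : B →ₐ[R] BT).toRingHom)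
    fun s => IsLocalization.map_units (M := P'.primeCompl) L ⟨(1 : T) ⊗ₜ[R] (s : B), fun h => s.2 ((hP' s).1 h)⟩
  have hξ : ∀ b : B, ξ (algebraMap B Lx b) = algebraMap BT L ((1 : T) ⊗ₜ[R] b) := fun b =>
    IsLocalization.lift_eq _ _
  have hξρ : ∀ r : Rs, ξ (ρ r) = algebraMap BT L (algebraMap Rs T r ⊗ₜ[R] 1) := by
    have h : ξ.comp ρ = (algebraMap BT L).comp
        ((Algebra.TensorProduct.includeLeft : T →ₐ[R] BT).toRingHom.comp (algebraMap Rs T)) := by
      refine IsLocalization.ringHom_ext p.primeCompl (RingHom.ext fun r => ?_)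
      show ξ (ρ (algebraMap R Rs r)) = algebraMap BT L (algebraMap Rs T (algebraMap R Rs r) ⊗ₜ[R] (1 : B))
      rw [← RingHom.comp_apply ρ, hρ, RingHom.comp_apply, hξ, ← IsScalarTower.algebraMap_apply R Rs T]
      exact congrArg (algebraMap BT L) (Algebra.TensorProduct.tmul_one_eq_one_tmul r).symm
    exact fun r => RingHom.congr_fun h r
  have hξloc : ∀ c ∈ maximalIdeal Lx, ξ c ∈ maximalIdeal L := by
    intro c hc
    obtain ⟨b, s, rfl⟩ := IsLocalization.exists_mk'_eq P.primeCompl c
    have hb : b ∈ P := (IsLocalization.AtPrime.to_map_mem_maximal_iff Lx P b).1 (by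
      rw [← IsLocalization.mk'_spec Lx b s]
      exact Ideal.mul_mem_right _ _ hc)
    have h1 : ξ (IsLocalization.mk' Lx b s) * ξ (algebraMap B Lx (s : B)) ∈ maximalIdeal L := by
      rw [← map_mul, IsLocalization.mk'_spec, hξ]
      exact (IsLocalization.AtPrime.to_map_mem_maximal_iff L P' _).2 ((hP' b).2 hb)
    exact (Ideal.mul_unit_mem_iff_mem _ ((IsLocalization.map_units Lx s).map ξ)).1 h1
  let J : Ideal L := (maximalIdeal Lx).map ξ
  have hJle : J ≤ maximalIdeal L := Ideal.map_le_iff_le_comap.2 hξloc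
  have hT : ∀ t : T, ∃ r : Rs, algebraMap BT L (t ⊗ₜ[R] 1) - ξ (ρ r) ∈ J := by
    intro t
    obtain ⟨r, hr⟩ := AdicRingLib.exists_sub_mem_map_pow (IsNoetherian.noetherian (maximalIdeal Rs)) 1 t
    refine ⟨r, ?_⟩
    rw [hξρ, ← map_sub, ← TensorProduct.sub_tmul]
    rw [pow_one] at hr
    refine (Ideal.map_le_iff_le_comap
      (f := algebraMap Rs T)
      (K := J.comap ((algebraMap BT L).comp (Algebra.TensorProduct.includeLeft : T →ₐ[R] BT).toRingHom))).2
      (fun w hw => ?_) hr
    show algebraMap BT L (algebraMap Rs T w ⊗ₜ[R] 1) ∈ J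
    rw [← hξρ]
    exact Ideal.mem_map_of_mem ξ (fun h => (mem_maximalIdeal _).1 hw (IsLocalHom.map_nonunit w h))
  have hBT : ∀ z : BT, ∃ c : Lx, algebraMap BT L z - ξ c ∈ J := by
    intro z
    induction z using TensorProduct.induction_on with
    | zero => exact ⟨0, by simp⟩
    | add x y hx hy =>
      obtain ⟨c, hc⟩ := hx
      obtain ⟨d, hd⟩ := hy
      refine ⟨c + d, ?_⟩
      rw [map_add, map_add, add_sub_add_comm]
      exact add_mem hc hd
    | tmul t b =>
      obtain ⟨r, hr⟩ := hT t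
      refine ⟨ρ r * algebraMap B Lx b, ?_⟩
      rw [show t ⊗ₜ[R] b = (t ⊗ₜ[R] (1 : B)) * ((1 : T) ⊗ₜ[R] b) by
        rw [Algebra.TensorProduct.tmul_mul_tmul, mul_one, one_mul], map_mul, map_mul, hξ, ← sub_mul]
      exact Ideal.mul_mem_right _ _ hr
  haveI : IsLocalHom ξ := ⟨fun x hx => by
    by_contra h
    exact hξloc x h hx⟩
  have hm : J = maximalIdeal L := by
    refine le_antisymm hJle ?_
    rw [← IsLocalization.AtPrime.map_eq_maximalIdeal P' L]
    refine Ideal.map_le_iff_le_comap.2 fun z hz => ?_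
    show algebraMap BT L z ∈ J
    obtain ⟨c, hc⟩ := hBT z
    have hzc : ξ c ∈ maximalIdeal L := by
      have h := sub_mem ((IsLocalization.AtPrime.to_map_mem_maximal_iff L P' z).2 hz) (hJle hc)
      rwa [sub_sub_cancel] at h
    have hcm : c ∈ maximalIdeal Lx := fun h => hzc (h.map ξ)
    rw [← sub_add_cancel (algebraMap BT L z) (ξ c)]
    exact add_mem hc (Ideal.mem_map_of_mem ξ hcm)
  have hres : ∀ z : L, ∃ c : Lx, z - ξ c ∈ maximalIdeal L := fun z => by
    obtain ⟨y, s, rfl⟩ := IsLocalization.exists_mk'_eq P'.primeCompl z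
    obtain ⟨c, hc⟩ := hBT y
    obtain ⟨e, he⟩ := hBT s
    have heu : IsUnit e := by
      by_contra h
      have h3 := add_mem (hJle he) (hξloc e h)
      rw [sub_add_cancel] at h3
      exact h3 (IsLocalization.map_units L s)
    obtain ⟨e, rfl⟩ := heu
    refine ⟨c * (↑e⁻¹ : Lx), ?_⟩
    refine (Ideal.mul_unit_mem_iff_mem _ (IsLocalization.map_units L s)).1 ?_
    rw [sub_mul, IsLocalization.mk'_spec]
    have h4 : ξ (↑e⁻¹ : Lx) * ξ (↑e : Lx) = 1 := by rw [← map_mul, Units.inv_mul, map_one]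
    have h5 : algebraMap BT L y - ξ (c * ↑e⁻¹) * algebraMap BT L s =
        (algebraMap BT L y - ξ c) - ξ (c * ↑e⁻¹) * (algebraMap BT L s - ξ e) := by
      rw [map_mul]; linear_combination (ξ c) * (-h4)
    rw [h5]
    exact sub_mem (hJle hc) (Ideal.mul_mem_left _ _ (hJle he))
  refine ⟨ξ, hξ, hres, hξρ, ?_⟩
  letI : Algebra B BT := Algebra.TensorProduct.rightAlgebra
  haveI : Module.Flat R Rs := IsLocalization.flat Rs p.primeCompl
  haveI : Module.Flat R T := Module.Flat.trans R Rs T
  haveI : Module.Flat B BT := Module.Flat.of_linearEquiv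
    (Algebra.TensorProduct.commRight R B T).toLinearEquiv.symm
  letI : Algebra B L := ((algebraMap BT L).comp (algebraMap B BT)).toAlgebra
  haveI : IsScalarTower B BT L := IsScalarTower.of_algebraMap_eq fun _ => rfl
  haveI : Module.Flat BT L := IsLocalization.flat L P'.primeCompl
  haveI : Module.Flat B L := Module.Flat.trans B BT L
  letI : Algebra Lx L := ξ.toAlgebra
  haveI : IsScalarTower B Lx L := IsScalarTower.of_algebraMap_eq fun b => (hξ b).symm
  haveI : IsLocalHom (algebraMap Lx L) := ‹IsLocalHom ξ›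
  haveI : Module.Flat Lx L := (Module.flat_iff_of_isLocalization Lx P.primeCompl L).2 inferInstance
  exact exists_cplMap_bijective hm hres

end ApproxLib
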