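import Groth.Agent.ApproxLib.DescEtale

/-!
# Descending an algebra étale over two algebras
-/

set_option autoImplicit false

universe u

open TensorProduct

namespace ApproxLib

/-- Étale maps composed with isomorphisms. -/
theorem etale_comp_bijective {R S T : Type u} [CommRing R] [CommRing S] [CommRing T] (f : R →+* S) (g : S →+* T)
    (hf : f.Etale) (hg : Function.Bijective g) : (g.comp f).Etale := by
  have h := RingHom.Etale.respectsIso.1 f (RingEquiv.ofBijective g hg) hf
  exact h

/-- Étale maps precomposed with isomorphisms. -/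
theorem etale_bijective_comp {R S T : Type u} [CommRing R] [CommRing S] [CommRing T] (f : R →+* S) (g : S →+* T)
    (hf : Function.Bijective f) (hg : g.Etale) : (g.comp f).Etale := by
  have h := RingHom.Etale.respectsIso.2 g (RingEquiv.ofBijective f hf) hg
  exact h

/-- Étale maps from a base change stay étale after a further base change. -/
theorem etale_lift_baseChange {A A' A'' M F : Type u} [CommRing A] [CommRing A'] [CommRing A''] [Algebra A A']
    [Algebra A A''] [Algebra A' A''] [IsScalarTower A A' A''] [CommRing M] [Algebra A M] [CommRing F] [Algebra A F]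
    [Algebra A' F] [IsScalarTower A A' F] (w : M →ₐ[A] F)
    (hw : (Algebra.TensorProduct.lift (Algebra.ofId A' F) w fun _ _ => Commute.all _ _).toRingHom.Etale) :
    (Algebra.TensorProduct.lift (Algebra.ofId A'' (A'' ⊗[A'] F))
      (((Algebra.TensorProduct.includeRight : F →ₐ[A'] A'' ⊗[A'] F).restrictScalars A).comp w)
      fun _ _ => Commute.all _ _).toRingHom.Etale := by
  let v := Algebra.TensorProduct.lift (Algebra.ofId A' F) w fun _ _ => Commute.all _ _
  let c := (Algebra.TensorProduct.cancelBaseChange A A' A'' A'' M).symm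
  have h := etale_bijective_comp c.toRingEquiv.toRingHom _ c.bijective (etale_map_id (A' := A'') v hw)
  refine (congrArg RingHom.Etale ?_).mp h
  refine RingHom.ext fun z => ?_
  induction z using TensorProduct.induction_on with
  | zero => simp
  | add x y hx hy => simp only [map_add, hx, hy]
  | tmul a m =>
    show Algebra.TensorProduct.map (AlgHom.id A'' A'') v (c (a ⊗ₜ[A] m)) = _
    rw [show c (a ⊗ₜ[A] m) = a ⊗ₜ[A'] ((1 : A') ⊗ₜ[A] m) from
      Algebra.TensorProduct.cancelBaseChange_symm_tmul _ _ _ _ _ _ _, Algebra.TensorProduct.map_tmul]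
    refine Eq.trans ?_ (Algebra.TensorProduct.lift_tmul _ _ _ a m).symm
    show a ⊗ₜ[A'] v ((1 : A') ⊗ₜ[A] m) = (a ⊗ₜ[A'] (1 : F)) * ((1 : A'') ⊗ₜ[A'] w m)
    rw [Algebra.TensorProduct.tmul_mul_tmul, one_mul, mul_one]
    refine congrArg _ ?_
    show Algebra.TensorProduct.lift (Algebra.ofId A' F) w _ ((1 : A') ⊗ₜ[A] m) = w m
    rw [Algebra.TensorProduct.lift_tmul, map_one, one_mul]

/-- Étale maps from a nested base change give étale maps from a base change. -/
theorem etale_lift_restrict {A A' A'' M F : Type u} [CommRing A] [CommRing A'] [CommRing A''] [Algebra A A']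
    [Algebra A A''] [Algebra A' A''] [IsScalarTower A A' A''] [CommRing M] [Algebra A M] [CommRing F] [Algebra A F]
    [Algebra A' F] [Algebra A'' F] [IsScalarTower A A' F] [IsScalarTower A A'' F] [IsScalarTower A' A'' F]
    (w : A' ⊗[A] M →ₐ[A'] F)
    (hw : (Algebra.TensorProduct.lift (Algebra.ofId A'' F) w fun _ _ => Commute.all _ _).toRingHom.Etale) :
    (Algebra.TensorProduct.lift (Algebra.ofId A'' F)
      ((w.restrictScalars A).comp Algebra.TensorProduct.includeRight)
      fun _ _ => Commute.all _ _).toRingHom.Etale := by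
  let c := (Algebra.TensorProduct.cancelBaseChange A A' A'' A'' M).symm
  have h := etale_bijective_comp c.toRingEquiv.toRingHom _ c.bijective hw
  refine (congrArg RingHom.Etale ?_).mp h
  refine RingHom.ext fun z => ?_
  induction z using TensorProduct.induction_on with
  | zero => simp
  | add x y hx hy => simp only [map_add, hx, hy]
  | tmul a m =>
    show Algebra.TensorProduct.lift (Algebra.ofId A'' F) w (fun _ _ => Commute.all _ _) (c (a ⊗ₜ[A] m)) =
      Algebra.TensorProduct.lift (Algebra.ofId A'' F)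
        ((w.restrictScalars A).comp Algebra.TensorProduct.includeRight) (fun _ _ => Commute.all _ _) (a ⊗ₜ[A] m)
    rw [show c (a ⊗ₜ[A] m) = a ⊗ₜ[A'] ((1 : A') ⊗ₜ[A] m) from
      Algebra.TensorProduct.cancelBaseChange_symm_tmul _ _ _ _ _ _ _,
      Algebra.TensorProduct.lift_tmul, Algebra.TensorProduct.lift_tmul]
    rfl

/-- Algebras étale over a base change of a finite type algebra are of finite type. -/
theorem finiteType_of_etale_lift {A A' M F : Type u} [CommRing A] [CommRing A'] [Algebra A A'] [CommRing M]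
    [Algebra A M] [Algebra.FiniteType A M] [CommRing F] [Algebra A F] [Algebra A' F] [IsScalarTower A A' F]
    (w : M →ₐ[A] F)
    (hw : (Algebra.TensorProduct.lift (Algebra.ofId A' F) w fun _ _ => Commute.all _ _).toRingHom.Etale) :
    Algebra.FiniteType A' F := by
  let v := Algebra.TensorProduct.lift (Algebra.ofId A' F) w fun _ _ => Commute.all _ _
  letI : Algebra (A' ⊗[A] M) F := v.toRingHom.toAlgebra
  haveI : IsScalarTower A' (A' ⊗[A] M) F := IsScalarTower.of_algebraMap_eq fun a => (v.commutes a).symm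
  haveI : Algebra.Etale (A' ⊗[A] M) F := hw
  exact Algebra.FiniteType.trans (inferInstance : Algebra.FiniteType A' (A' ⊗[A] M)) inferInstance

/-- Two models with étale maps give a common algebra at a finite stage. -/
theorem exists_common_model {A A₂ T M M' E G F₂ : Type u} [CommRing A] [CommRing A₂] [IsNoetherianRing A₂]
    [Algebra A A₂] [Algebra.FiniteType A A₂] [CommRing T] [Algebra A T] [Algebra A₂ T] [IsScalarTower A A₂ T]
    [CommRing M] [Algebra A M] [Algebra.FiniteType A M] [CommRing M'] [Algebra A M'] [Algebra.FiniteType A M']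
    [CommRing E] [Algebra A E] [Algebra A₂ E] [Algebra T E] [IsScalarTower A₂ T E] [IsScalarTower A A₂ E]
    [CommRing G] [Algebra A G] [Algebra A₂ G] [IsScalarTower A A₂ G]
    [CommRing F₂] [Algebra A F₂] [Algebra A₂ F₂] [IsScalarTower A A₂ F₂]
    (θG : G →ₐ[A₂] E) (hbG : Function.Bijective (modelLift (T := T) θG)) (wG : M →ₐ[A] G)
    (heG : (Algebra.TensorProduct.lift (Algebra.ofId A₂ G) wG fun _ _ => Commute.all _ _).toRingHom.Etale)
    (θ₂ : F₂ →ₐ[A₂] E) (hb₂ : Function.Bijective (modelLift (T := T) θ₂)) (w₂ : M' →ₐ[A] F₂)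
    (he₂ : (Algebra.TensorProduct.lift (Algebra.ofId A₂ F₂) w₂ fun _ _ => Commute.all _ _).toRingHom.Etale) :
    ∃ (A' : Type u) (_ : CommRing A') (_ : Algebra A A') (_ : Algebra.FiniteType A A') (a : A' →ₐ[A] T)
      (F : Type u) (_ : CommRing F) (_ : Algebra A F) (_ : Algebra A' F) (_ : IsScalarTower A A' F)
      (θ : F →+* E) (w : M →ₐ[A] F) (w' : M' →ₐ[A] F),
      (Algebra.TensorProduct.lift (Algebra.ofId A' F) w fun _ _ => Commute.all _ _).toRingHom.Etale ∧
      (Algebra.TensorProduct.lift (Algebra.ofId A' F) w' fun _ _ => Commute.all _ _).toRingHom.Etale ∧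
      (∀ r, θ (algebraMap A' F r) = algebraMap T E (a r)) ∧
      (∀ m, θ (w m) = θG (wG m)) ∧ (∀ m, θ (w' m) = θ₂ (w₂ m)) := by
  haveI : Algebra.FiniteType A₂ G := finiteType_of_etale_lift wG heG
  haveI : Algebra.FiniteType A₂ F₂ := finiteType_of_etale_lift w₂ he₂
  haveI : Algebra.FinitePresentation A₂ G := Algebra.FinitePresentation.of_finiteType.1 inferInstance
  haveI : Algebra.FinitePresentation A₂ F₂ := Algebra.FinitePresentation.of_finiteType.1 inferInstance
  obtain ⟨S, hS, e, he⟩ := exists_equiv_stage θG hbG θ₂ hb₂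
  haveI : Algebra.FiniteType A₂ ↥S := (Subalgebra.fg_iff_finiteType S).mp hS
  have hAS : Algebra.FiniteType A ↥S :=
    Algebra.FiniteType.trans (inferInstance : Algebra.FiniteType A A₂) (inferInstance : Algebra.FiniteType A₂ ↥S)
  let F := ↥S ⊗[A₂] G
  let wF : M →ₐ[A] F := ((Algebra.TensorProduct.includeRight : G →ₐ[A₂] F).restrictScalars A).comp wG
  have heF := etale_lift_baseChange (A'' := ↥S) wG heG
  let w2F : M' →ₐ[A] ↥S ⊗[A₂] F₂ :=
    ((Algebra.TensorProduct.includeRight : F₂ →ₐ[A₂] ↥S ⊗[A₂] F₂).restrictScalars A).comp w₂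
  have he2F := etale_lift_baseChange (A'' := ↥S) w₂ he₂
  let w' : M' →ₐ[A] F := (e.toAlgHom.restrictScalars A).comp w2F
  have heW' : (Algebra.TensorProduct.lift (Algebra.ofId ↥S F) w' fun _ _ => Commute.all _ _).toRingHom.Etale := by
    refine (congrArg RingHom.Etale ?_).mp (etale_comp_bijective _ e.toRingEquiv.toRingHom he2F e.bijective)
    refine RingHom.ext fun z => ?_
    induction z using TensorProduct.induction_on with
    | zero => simp
    | add x y hx hy => simp only [map_add, hx, hy]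
    | tmul r m =>
      show e (Algebra.TensorProduct.lift (Algebra.ofId ↥S (↥S ⊗[A₂] F₂)) w2F (fun _ _ => Commute.all _ _) (r ⊗ₜ[A] m)) =
        Algebra.TensorProduct.lift (Algebra.ofId ↥S F) w' (fun _ _ => Commute.all _ _) (r ⊗ₜ[A] m)
      rw [Algebra.TensorProduct.lift_tmul, Algebra.TensorProduct.lift_tmul, map_mul, Algebra.ofId_apply,
        Algebra.ofId_apply, e.commutes]
      rfl
  refine ⟨↥S, inferInstance, inferInstance, hAS, (S.val).restrictScalars A, F, inferInstance, inferInstance,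
    inferInstance, inferInstance, (stageLift S θG).toRingHom, wF, w', heF, heW', fun r => ?_, fun m => ?_, fun m => ?_⟩
  · show stageLift S θG (r ⊗ₜ[A₂] (1 : G)) = algebraMap T E (r : T)
    rw [stageLift_tmul, map_one, mul_one]
  · show stageLift S θG ((1 : ↥S) ⊗ₜ[A₂] wG m) = _
    rw [stageLift_tmul, OneMemClass.coe_one, map_one, one_mul]
  · show stageLift S θG (e ((1 : ↥S) ⊗ₜ[A₂] w₂ m)) = _
    rw [he, stageLift_tmul, OneMemClass.coe_one, map_one, one_mul]

/-- An algebra étale over two base changes to `T` comes from a finite stage. -/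
theorem exists_descend_pair {A T M M' E : Type u} [CommRing A] [IsNoetherianRing A] [CommRing T] [Algebra A T]
    [CommRing M] [Algebra A M] [Algebra.FinitePresentation A M]
    [CommRing M'] [Algebra A M'] [Algebra.FinitePresentation A M']
    [CommRing E] [Algebra A E] [Algebra T E] [IsScalarTower A T E]
    (u : T ⊗[A] M →ₐ[T] E) (hu : u.toRingHom.Etale) (u' : T ⊗[A] M' →ₐ[T] E) (hu' : u'.toRingHom.Etale) :
    ∃ (A' : Type u) (_ : CommRing A') (_ : Algebra A A') (_ : Algebra.FiniteType A A') (a : A' →ₐ[A] T)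
      (F : Type u) (_ : CommRing F) (_ : Algebra A F) (_ : Algebra A' F) (_ : IsScalarTower A A' F)
      (θ : F →+* E) (w : M →ₐ[A] F) (w' : M' →ₐ[A] F),
      (Algebra.TensorProduct.lift (Algebra.ofId A' F) w fun _ _ => Commute.all _ _).toRingHom.Etale ∧
      (Algebra.TensorProduct.lift (Algebra.ofId A' F) w' fun _ _ => Commute.all _ _).toRingHom.Etale ∧
      (∀ r, θ (algebraMap A' F r) = algebraMap T E (a r)) ∧
      (∀ m, θ (w m) = u ((1 : T) ⊗ₜ[A] m)) ∧ (∀ m, θ (w' m) = u' ((1 : T) ⊗ₜ[A] m)) := by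
  obtain ⟨S₁, hS₁, F₁, _, _, _, _, θ₁, w₁, hb₁, he₁, hc₁⟩ := exists_etale_model u hu
  haveI : Algebra.FiniteType A ↥S₁ := (Subalgebra.fg_iff_finiteType S₁).mp hS₁
  haveI : IsNoetherianRing ↥S₁ := Algebra.FiniteType.isNoetherianRing A ↥S₁
  let c := Algebra.TensorProduct.cancelBaseChange A ↥S₁ T T M'
  obtain ⟨S₂, hS₂, F₂, _, _, _, _, θ₂, w₂, hb₂, he₂, hc₂⟩ :=
    exists_etale_model (A := ↥S₁) (u'.comp c.toAlgHom) (etale_bijective_comp _ _ c.bijective hu')
  haveI : Algebra.FiniteType ↥S₁ ↥S₂ := (Subalgebra.fg_iff_finiteType S₂).mp hS₂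
  haveI : IsNoetherianRing ↥S₂ := Algebra.FiniteType.isNoetherianRing ↥S₁ ↥S₂
  haveI : Algebra.FiniteType A ↥S₂ :=
    Algebra.FiniteType.trans (inferInstance : Algebra.FiniteType A ↥S₁) (inferInstance : Algebra.FiniteType ↥S₁ ↥S₂)
  letI : Algebra A F₂ := ((algebraMap ↥S₁ F₂).comp (algebraMap A ↥S₁)).toAlgebra
  haveI : IsScalarTower A ↥S₁ F₂ := IsScalarTower.of_algebraMap_eq fun _ => rfl
  haveI : IsScalarTower A ↥S₂ F₂ := IsScalarTower.of_algebraMap_eq fun r => by
    show algebraMap ↥S₁ F₂ (algebraMap A ↥S₁ r) = _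
    rw [IsScalarTower.algebraMap_apply ↥S₁ ↥S₂ F₂, ← IsScalarTower.algebraMap_apply A ↥S₁ ↥S₂]
  have hbG := bijective_modelLift_baseChange (A' := ↥S₂) θ₁ hb₁
  let wG : M →ₐ[A] ↥S₂ ⊗[↥S₁] F₁ :=
    ((Algebra.TensorProduct.includeRight : F₁ →ₐ[↥S₁] ↥S₂ ⊗[↥S₁] F₁).restrictScalars A).comp w₁
  obtain ⟨A', iA', iAA', hft, a, F, iF, iAF, iA'F, hT, θ, w, w', h1, h2, h3, h4, h5⟩ :=
    exists_common_model _ hbG wG (etale_lift_baseChange (A'' := ↥S₂) w₁ he₁) θ₂ hb₂
      ((w₂.restrictScalars A).comp Algebra.TensorProduct.includeRight) (etale_lift_restrict w₂ he₂)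
  refine ⟨A', iA', iAA', hft, a, F, iF, iAF, iA'F, hT, θ, w, w', h1, h2, h3, fun m => ?_, fun m => ?_⟩
  · rw [h4, ← hc₁]
    refine (Algebra.TensorProduct.lift_tmul _ _ _ _ _).trans ?_
    rw [map_one, one_mul]
    rfl
  · rw [h5]
    show θ₂ (w₂ ((1 : ↥S₁) ⊗ₜ[A] m)) = _
    rw [hc₂]
    show u' (c ((1 : T) ⊗ₜ[↥S₁] ((1 : ↥S₁) ⊗ₜ[A] m))) = _
    rw [Algebra.TensorProduct.cancelBaseChange_tmul, one_smul]

end ApproxLib
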