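import Mathlib

/-!
# Morphisms from spectra into affine opens
-/

set_option autoImplicit false

universe u

open CategoryTheory AlgebraicGeometry TopologicalSpace Opposite

namespace ApproxLib

/-- The structure map of `R` to the stalk of its spectrum. -/
noncomputable abbrev toStalkSpec (R : CommRingCat.{u}) (u : Spec R) : R ⟶ (Spec R).presheaf.stalk u :=
  (Scheme.ΓSpecIso R).inv ≫ (Spec R).presheaf.germ ⊤ u trivial

theorem isLocalization_toStalkSpec (R : CommRingCat.{u}) (u : Spec R) :
    @IsLocalization.AtPrime R _ ((Spec R).presheaf.stalk u) _ (toStalkSpec R u).hom.toAlgebra u.asIdeal _ :=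
  StructureSheaf.IsLocalization.to_stalk R u

/-- Stalk maps of morphisms `Spec R' ⟶ X` through an affine open. -/
theorem germ_stalkMap_chart {X : Scheme.{u}} {W : X.Opens} (hW : IsAffineOpen W) {R' : CommRingCat.{u}}
    (f : Γ(X, W) ⟶ R') (u : Spec R') (x : X) (hx : x ∈ W) (heu : (Spec.map f ≫ hW.fromSpec) u = x) :
    X.presheaf.germ W x hx ≫ (X.presheaf.stalkCongr (Inseparable.of_eq heu)).inv ≫
        (Spec.map f ≫ hW.fromSpec).stalkMap u = f ≫ toStalkSpec R' u := by
  subst heu
  simp only [TopCat.Presheaf.stalkCongr_inv, TopCat.Presheaf.germ_stalkSpecializes_assoc]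
  show X.presheaf.germ W (hW.fromSpec ((Spec.map f) u)) hx ≫ _ = _
  rw [Scheme.Hom.stalkMap_comp]
  refine (Scheme.Hom.germ_stalkMap_assoc hW.fromSpec W ((Spec.map f) u) hx _).trans ?_
  rw [hW.fromSpec_app_self]
  simp only [Category.assoc]
  have h := Scheme.ΓSpecIso_inv_naturality f
  rw [Scheme.Hom.appTop] at h
  rw [toStalkSpec, reassoc_of% h]
  congr 1
  rw [Scheme.Hom.germ_stalkMap]
  rw [Scheme.Hom.naturality_assoc, TopCat.Presheaf.germ_res]
  rfl

end ApproxLib
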