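import Groth.Agent.ApproxLib.LocalApprox
import Groth.Agent.ApproxLib.SpecChart
import Groth.Agent.GRingLib.FiniteType
import Mathlib

/-!
# Approximating maps into completions of stalks on étale neighbourhoods
-/

set_option autoImplicit false

universe u

open CategoryTheory AlgebraicGeometry TopologicalSpace Opposite TensorProduct IsLocalRing

namespace ApproxLib

/-- Localizations of finite type algebras over rings whose localization is a G-ring are G-rings. -/
theorem isGRing_localization {R B L Rp : Type u} [CommRing R] [CommRing B] [Algebra R B] [Algebra.FiniteType R B]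
    [CommRing L] [Algebra B L] [IsNoetherianRing L] [CommRing Rp] [Algebra R Rp] (M : Submonoid B) [IsLocalization M L]
    (hG : CAlg.IsGRing Rp) (h : Rp →+* L)
    (hh : h.comp (algebraMap R Rp) = (algebraMap B L).comp (algebraMap R B)) : CAlg.IsGRing L := by
  letI : Algebra R L := ((algebraMap B L).comp (algebraMap R B)).toAlgebra
  haveI : IsScalarTower R B L := IsScalarTower.of_algebraMap_eq fun _ => rfl
  let h' : Rp →ₐ[R] L := { h with commutes' := fun r => RingHom.congr_fun hh r }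
  let E := Rp ⊗[R] B
  let θ : E →ₐ[R] L := Algebra.TensorProduct.lift h' (IsScalarTower.toAlgHom R B L) fun _ _ => Commute.all _ _
  have hθ : θ.toRingHom.comp (Algebra.TensorProduct.includeRight : B →ₐ[R] E).toRingHom = algebraMap B L :=
    RingHom.ext fun b => by
      show θ ((1 : Rp) ⊗ₜ[R] b) = algebraMap B L b
      rw [Algebra.TensorProduct.lift_tmul, map_one, one_mul]
      rfl
  refine GRingLib.isGRing_of_surjectiveOnStalks E L θ.toRingHom ?_ (GRingLib.isGRing_of_finiteType Rp hG E)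
  refine RingHom.SurjectiveOnStalks.of_comp (f := (Algebra.TensorProduct.includeRight : B →ₐ[R] E).toRingHom) ?_
  rw [hθ]
  exact RingHom.surjectiveOnStalks_of_isLocalization M L

/-- Morphisms to completions of stalks are approximated by morphisms on elementary étale neighbourhoods. -/
theorem exists_etale_nbhd_approx {X Y S : Scheme.{u}} [IsLocallyNoetherian S]
    (p : X ⟶ S) (q : Y ⟶ S) [LocallyOfFiniteType p] [LocallyOfFiniteType q] (x : X) (y : Y) (hxy : p x = q y)
    (hG : CAlg.IsGRing ↑(S.presheaf.stalk (p x)))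
    (φ : ↑(Y.presheaf.stalk y) →+* (AdicCompletion (IsLocalRing.maximalIdeal ↑(X.presheaf.stalk x)) ↑(X.presheaf.stalk x)))
    (hφ : φ.comp ((q.stalkMap y).hom.comp (S.presheaf.stalkCongr (Inseparable.of_eq hxy)).hom.hom) =
      (algebraMap ↑(X.presheaf.stalk x) (AdicCompletion (IsLocalRing.maximalIdeal ↑(X.presheaf.stalk x)) ↑(X.presheaf.stalk x))).comp (p.stalkMap x).hom)
    (hloc : ∀ b ∈ IsLocalRing.maximalIdeal ↑(Y.presheaf.stalk y),
      φ b ∈ (IsLocalRing.maximalIdeal ↑(X.presheaf.stalk x)).map (algebraMap ↑(X.presheaf.stalk x) (AdicCompletion (IsLocalRing.maximalIdeal ↑(X.presheaf.stalk x)) ↑(X.presheaf.stalk x))))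
    (N : ℕ) (hN : 1 ≤ N) :
    ∃ (U : Scheme.{u}) (e : U ⟶ X) (u : U) (heu : e u = x) (f : U ⟶ Y) (hfu : f u = y),
      Etale e ∧ Function.Bijective (e.residueFieldMap u) ∧ f ≫ q = e ≫ p ∧
      ∀ (b : ↑(Y.presheaf.stalk y)) (c : ↑(X.presheaf.stalk x)),
        AdicCompletion.evalₐ (IsLocalRing.maximalIdeal ↑(X.presheaf.stalk x)) N (φ b) =
          Ideal.Quotient.mk (IsLocalRing.maximalIdeal ↑(X.presheaf.stalk x) ^ N) c →
        Ideal.Quotient.mk (IsLocalRing.maximalIdeal ↑(U.presheaf.stalk u) ^ N)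
            ((f.stalkMap u).hom ((Y.presheaf.stalkCongr (Inseparable.of_eq hfu)).inv.hom b)) =
          Ideal.Quotient.mk (IsLocalRing.maximalIdeal ↑(U.presheaf.stalk u) ^ N)
            ((e.stalkMap u).hom ((X.presheaf.stalkCongr (Inseparable.of_eq heu)).inv.hom c)) := by
  obtain ⟨V, hV, hxV, -⟩ := exists_isAffineOpen_mem_and_subset (x := p x) (U := ⊤) trivial
  obtain ⟨W, hW, hxW, hpW⟩ := exists_isAffineOpen_mem_and_subset (x := x) (U := p ⁻¹ᵁ V) hxV
  have hyV : q y ∈ V := hxy ▸ hxV
  obtain ⟨W', hW', hyW, hqW⟩ := exists_isAffineOpen_mem_and_subset (x := y) (U := q ⁻¹ᵁ V) hyV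
  let R := Γ(S, V)
  let B := Γ(X, W)
  let C := Γ(Y, W')
  let L := X.presheaf.stalk x
  let T := AdicCompletion (maximalIdeal ↑L) ↑L
  letI algRB : Algebra R B := (p.appLE V W hpW).hom.toAlgebra
  letI algRC : Algebra R C := (q.appLE V W' hqW).hom.toAlgebra
  haveI : Algebra.FiniteType R B := p.finiteType_appLE hV hW hpW
  haveI : Algebra.FiniteType R C := q.finiteType_appLE hV hW' hqW
  haveI hRn : IsNoetherianRing R := IsLocallyNoetherian.component_noetherian ⟨V, hV⟩
  haveI : IsNoetherianRing B := Algebra.FiniteType.isNoetherianRing R B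
  haveI : Algebra.FinitePresentation R C := Algebra.FinitePresentation.of_finiteType.1 inferInstance
  letI algBL : Algebra B L := X.presheaf.algebra_section_stalk ⟨x, hxW⟩
  letI algRL : Algebra R L := ((algebraMap B L).comp (algebraMap R B)).toAlgebra
  haveI : IsScalarTower R B L := IsScalarTower.of_algebraMap_eq fun _ => rfl
  let P : Ideal B := (hW.primeIdealOf ⟨x, hxW⟩).asIdeal
  haveI : IsLocalization.AtPrime L P := hW.isLocalization_stalk ⟨x, hxW⟩
  haveI : IsNoetherianRing L := IsLocalization.isNoetherianRing P.primeCompl L inferInstance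
  letI algRS : Algebra R (S.presheaf.stalk (p x)) := S.presheaf.algebra_section_stalk ⟨p x, hxV⟩
  have hpstalk : ∀ r : R, (p.stalkMap x).hom (S.presheaf.germ V (p x) hxV r) =
      algebraMap B L (algebraMap R B r) := fun r => by
    show _ = X.presheaf.germ W x hxW (p.appLE V W hpW r)
    rw [Scheme.Hom.appLE, CommRingCat.comp_apply, TopCat.Presheaf.germ_res_apply]
    exact Scheme.Hom.germ_stalkMap_apply p V x hxV r
  have hGL : CAlg.IsGRing L :=
    isGRing_localization (R := R) (B := B) P.primeCompl hG (p.stalkMap x).hom (RingHom.ext hpstalk)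
  -- the map from the second chart
  have hqstalk : ∀ r : R, φ (Y.presheaf.germ W' y hyW (algebraMap R C r)) =
      algebraMap L T (algebraMap B L (algebraMap R B r)) := fun r => by
    rw [← hpstalk r]
    refine Eq.trans ?_ (RingHom.congr_fun hφ (S.presheaf.germ V (p x) hxV r))
    show _ = φ ((q.stalkMap y).hom ((S.presheaf.stalkCongr (Inseparable.of_eq hxy)).hom.hom
      (S.presheaf.germ V (p x) hxV r)))
    refine congrArg φ ?_
    have h1 : (S.presheaf.stalkCongr (Inseparable.of_eq hxy)).hom.hom (S.presheaf.germ V (p x) hxV r) =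
        S.presheaf.germ V (q y) hyV r := by
      show (S.presheaf.germ V (p x) hxV ≫ (S.presheaf.stalkCongr (Inseparable.of_eq hxy)).hom).hom r = _
      rw [TopCat.Presheaf.stalkCongr_hom, TopCat.Presheaf.germ_stalkSpecializes]
    rw [h1]
    show Y.presheaf.germ W' y hyW (q.appLE V W' hqW r) = _
    rw [Scheme.Hom.appLE, CommRingCat.comp_apply, TopCat.Presheaf.germ_res_apply]
    exact (Scheme.Hom.germ_stalkMap_apply q V y hyV r).symm
  let f₀ : C →ₐ[R] T :=
    { φ.comp (Y.presheaf.germ W' y hyW).hom with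
      commutes' := fun r => by
        refine (hqstalk r).trans ?_
        show _ = algebraMap R T r
        rw [IsScalarTower.algebraMap_apply R L T, IsScalarTower.algebraMap_apply R B L] }
  let fD : B ⊗[R] C →ₐ[B] T := Algebra.TensorProduct.lift (Algebra.ofId B T) f₀ fun _ _ => Commute.all _ _
  have hfD : ∀ c : C, fD ((1 : B) ⊗ₜ[R] c) = φ (Y.presheaf.germ W' y hyW c) := fun c => by
    show Algebra.TensorProduct.lift (Algebra.ofId B T) f₀ _ ((1 : B) ⊗ₜ[R] c) = _
    rw [Algebra.TensorProduct.lift_tmul, map_one, one_mul]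
    rfl
  obtain ⟨B', _, _, hB', g, P', hP', hcomap, hgmem, hlocal⟩ := exists_local_approx P hGL fD hN
  let gC : C →+* B' := g.toRingHom.comp (Algebra.TensorProduct.includeRight : C →ₐ[R] B ⊗[R] C).toRingHom
  let U : Scheme.{u} := Spec (CommRingCat.of B')
  let u : U := ⟨P', hP'⟩
  let ιB : B ⟶ CommRingCat.of B' := CommRingCat.ofHom (algebraMap B B')
  let ιC : C ⟶ CommRingCat.of B' := CommRingCat.ofHom gC
  let e : U ⟶ X := Spec.map ιB ≫ hW.fromSpec
  let f : U ⟶ Y := Spec.map ιC ≫ hW'.fromSpec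
  have heu : e u = x := by
    have h1 : (Spec.map ιB) u = hW.primeIdealOf ⟨x, hxW⟩ := PrimeSpectrum.ext hcomap
    show hW.fromSpec ((Spec.map ιB) u) = x
    rw [h1, hW.fromSpec_primeIdealOf]
  letI algCY : Algebra C (Y.presheaf.stalk y) := Y.presheaf.algebra_section_stalk ⟨y, hyW⟩
  haveI hlocY : IsLocalization.AtPrime (Y.presheaf.stalk y) (hW'.primeIdealOf ⟨y, hyW⟩).asIdeal :=
    hW'.isLocalization_stalk ⟨y, hyW⟩
  haveI : IsNoetherianRing T := AdicRingLib.isNoetherianRing_adicCompletion _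
  have hmT : maximalIdeal T = (maximalIdeal ↑L).map (algebraMap L T) := AdicCompletion.maximalIdeal_eq_map
  have hfu : f u = y := by
    have h1 : (Spec.map ιC) u = hW'.primeIdealOf ⟨y, hyW⟩ := by
      refine PrimeSpectrum.ext ?_
      ext c
      show g ((1 : B) ⊗ₜ[R] c) ∈ P' ↔ _
      rw [hgmem, hfD, ← IsLocalization.AtPrime.to_map_mem_maximal_iff (Y.presheaf.stalk y)
        (hW'.primeIdealOf ⟨y, hyW⟩).asIdeal c]
      constructor
      · intro h
        by_contra h'
        exact h ((notMem_maximalIdeal.1 h').map φ)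
      · intro h
        rw [hmT]
        exact hloc _ h
    show hW'.fromSpec ((Spec.map ιC) u) = y
    rw [h1, hW'.fromSpec_primeIdealOf]
  letI algU : Algebra B' (U.presheaf.stalk u) := (toStalkSpec (CommRingCat.of B') u).hom.toAlgebra
  haveI : IsLocalization.AtPrime (U.presheaf.stalk u) P' := isLocalization_toStalkSpec (CommRingCat.of B') u
  let κ : L →+* U.presheaf.stalk u := ((X.presheaf.stalkCongr (Inseparable.of_eq heu)).inv ≫ e.stalkMap u).hom
  have hκ : κ.comp (algebraMap B L) = (algebraMap B' (U.presheaf.stalk u)).comp (algebraMap B B') :=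
    congrArg CommRingCat.Hom.hom (germ_stalkMap_chart hW ιB u x hxW heu)
  obtain ⟨hsurj, hcongr⟩ := hlocal (U.presheaf.stalk u) κ hκ
  have het : Etale e := by
    have h1 : Etale (Spec.map ιB) :=
      (HasRingHomProperty.Spec_iff (P := @Etale)).2 (RingHom.etale_algebraMap.2 hB')
    exact inferInstanceAs (Etale (Spec.map ιB ≫ hW.fromSpec))
  refine ⟨U, e, u, heu, f, hfu, het, ⟨RingHom.injective _, fun z => ?_⟩, ?_, fun b c hbc => ?_⟩
  · obtain ⟨z, rfl⟩ := Ideal.Quotient.mk_surjective z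
    obtain ⟨c, hc⟩ := hsurj z
    refine ⟨X.residue (e u) ((X.presheaf.stalkCongr (Inseparable.of_eq heu)).inv.hom c), ?_⟩
    refine (CommRingCat.comp_apply _ _ _).symm.trans ?_
    rw [Scheme.residue_residueFieldMap]
    exact (Ideal.Quotient.eq.2 hc).symm
  · have hC : q.appLE V W' hqW ≫ ιC = p.appLE V W hpW ≫ ιB := by
      ext r
      show g ((1 : B) ⊗ₜ[R] algebraMap R C r) = algebraMap B B' (algebraMap R B r)
      rw [← g.commutes]
      refine congrArg g ?_
      rw [Algebra.TensorProduct.algebraMap_apply, Algebra.algebraMap_self, RingHom.id_apply]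
      exact (Algebra.TensorProduct.tmul_one_eq_one_tmul r).symm
    show (Spec.map ιC ≫ hW'.fromSpec) ≫ q = (Spec.map ιB ≫ hW.fromSpec) ≫ p
    rw [Category.assoc, Category.assoc, ← IsAffineOpen.SpecMap_appLE_fromSpec q hV hW' hqW,
      ← IsAffineOpen.SpecMap_appLE_fromSpec p hV hW hpW, ← Spec.map_comp_assoc, ← Spec.map_comp_assoc, hC]
  let fL : Y.presheaf.stalk y →+* U.presheaf.stalk u :=
    ((Y.presheaf.stalkCongr (Inseparable.of_eq hfu)).inv ≫ f.stalkMap u).hom
  have hfL : fL.comp (algebraMap C (Y.presheaf.stalk y)) = (algebraMap B' (U.presheaf.stalk u)).comp gC :=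
    congrArg CommRingCat.Hom.hom (germ_stalkMap_chart hW' ιC u y hyW hfu)
  refine Ideal.Quotient.eq.2 ?_
  show fL b - κ c ∈ maximalIdeal (U.presheaf.stalk u) ^ N
  obtain ⟨c₁, c₂, rfl⟩ := IsLocalization.exists_mk'_eq (hW'.primeIdealOf ⟨y, hyW⟩).asIdeal.primeCompl b
  set z := IsLocalization.mk' (Y.presheaf.stalk y) c₁ c₂ with hz
  obtain ⟨e₁, he₁⟩ := Ideal.Quotient.mk_surjective
    (AdicCompletion.evalₐ (maximalIdeal ↑L) N (fD ((1 : B) ⊗ₜ[R] c₁)))
  obtain ⟨e₂, he₂⟩ := Ideal.Quotient.mk_surjective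
    (AdicCompletion.evalₐ (maximalIdeal ↑L) N (fD ((1 : B) ⊗ₜ[R] (c₂ : C))))
  have d₁ := hcongr _ _ he₁.symm
  have d₂ := hcongr _ _ he₂.symm
  have hg : ∀ c' : C, fL (algebraMap C (Y.presheaf.stalk y) c') =
      algebraMap B' (U.presheaf.stalk u) (g ((1 : B) ⊗ₜ[R] c')) := fun c' => RingHom.congr_fun hfL c'
  rw [← hg] at d₁ d₂
  have hspec : z * algebraMap C (Y.presheaf.stalk y) c₂ = algebraMap C (Y.presheaf.stalk y) c₁ :=
    IsLocalization.mk'_spec _ _ _
  have hdiff : e₁ - c * e₂ ∈ maximalIdeal ↑L ^ N := by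
    refine Ideal.Quotient.eq.1 ?_
    rw [map_mul, he₁, he₂, ← hbc, hfD, hfD, ← map_mul, ← map_mul]
    exact congrArg _ (congrArg φ hspec.symm)
  have hκN : κ (e₁ - c * e₂) ∈ maximalIdeal (U.presheaf.stalk u) ^ N := by
    rw [← map_maximalIdeal_eq P P' hcomap κ hκ, ← Ideal.map_pow]
    exact Ideal.mem_map_of_mem κ hdiff
  refine (Ideal.mul_unit_mem_iff_mem _
    ((IsLocalization.map_units (Y.presheaf.stalk y) c₂).map fL)).1 ?_
  have key : (fL z - κ c) * fL (algebraMap C (Y.presheaf.stalk y) c₂) =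
      (fL (algebraMap C (Y.presheaf.stalk y) c₁) - κ e₁) + κ (e₁ - c * e₂) -
        κ c * (fL (algebraMap C (Y.presheaf.stalk y) c₂) - κ e₂) := by
    rw [← hspec, map_mul fL, map_sub κ, map_mul κ]; ring
  rw [key]
  exact sub_mem (add_mem d₁ hκN) (Ideal.mul_mem_left _ _ d₂)

end ApproxLib
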