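import Groth.Agent.ApproxLib.RingCommonNbhd
import Groth.Agent.ApproxLib.DescPair
import Groth.Agent.ApproxLib.CplBaseChange
import Groth.Agent.ApproxLib.SchemeApprox
import Groth.Agent.CompleteLib.CompletionHom
import Groth.Agent.S0598
import Mathlib

/-!
# Common étale neighbourhoods over a parameter space, for rings
-/

set_option autoImplicit false

universe u

open IsLocalRing TensorProduct

namespace ApproxLib

/-- The elements of `E` which modulo the prime `w` are fractions of elements of `Z`. -/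
def IsFrac {Z E : Type u} [CommRing Z] [CommRing E] (f : Z →+* E) (w : Ideal E) : Prop :=
  ∀ e : E, ∃ z₁ z₂ : Z, f z₂ ∉ w ∧ e * f z₂ - f z₁ ∈ w

/-- Pushing a common étale model forward along a map of the base. -/
theorem exists_model_point {R D B C A A' F R' K : Type u} [CommRing R] [CommRing D] [CommRing B] [Algebra R B]
    [CommRing C] [Algebra D C] [CommRing A] [Algebra R A] [Algebra D A] [CommRing A'] [Algebra A A']
    [CommRing F] [Algebra A F] [Algebra A' F] [IsScalarTower A A' F]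
    (w₁ : A ⊗[R] B →ₐ[A] F) (w₂ : A ⊗[D] C →ₐ[A] F)
    (hw₁ : (Algebra.TensorProduct.lift (Algebra.ofId A' F) w₁ fun _ _ => Commute.all _ _).toRingHom.Etale)
    (hw₂ : (Algebra.TensorProduct.lift (Algebra.ofId A' F) w₂ fun _ _ => Commute.all _ _).toRingHom.Etale)
    [CommRing R'] [Algebra A' R'] [Algebra A R'] [IsScalarTower A A' R'] [Algebra R R'] [IsScalarTower R A R']
    [Algebra D R'] [IsScalarTower D A R'] [Algebra.Etale R R']
    [CommRing K] (κ : R' →+* K) (π : F →+* K) (h : ∀ α, κ (algebraMap A' R' α) = π (algebraMap A' F α)) :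
    ∃ (E : Type u) (_ : CommRing E) (fB : B →+* E) (θ : C ⊗[D] R' →+* E) (πE : E →+* K),
      fB.Etale ∧ θ.Etale ∧ (∀ r : R, fB (algebraMap R B r) = θ ((1 : C) ⊗ₜ[D] algebraMap R R' r)) ∧
      (∀ b, πE (fB b) = π (w₁ ((1 : A) ⊗ₜ[R] b))) ∧
      ∀ c r, πE (θ (c ⊗ₜ[D] r)) = κ r * π (w₂ ((1 : A) ⊗ₜ[D] c)) := by
  let E := R' ⊗[A'] F
  letI : Algebra A' K := (π.comp (algebraMap A' F)).toAlgebra
  let lF : F →ₐ[A'] K := { π with commutes' := fun _ => rfl }
  let lR : R' →ₐ[A'] K := { κ with commutes' := h }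
  let πE : E →ₐ[A'] K := Algebra.TensorProduct.lift lR lF fun _ _ => Commute.all _ _
  have hπE : ∀ (r : R') (y : F), πE (r ⊗ₜ[A'] y) = κ r * π y := fun r y =>
    Algebra.TensorProduct.lift_tmul _ _ _ r y
  let v₁ := Algebra.TensorProduct.lift (Algebra.ofId R' E)
    (((Algebra.TensorProduct.includeRight : F →ₐ[A'] E).restrictScalars A).comp w₁) fun _ _ => Commute.all _ _
  have hv₁ : v₁.toRingHom.Etale := etale_lift_baseChange (A'' := R') w₁ hw₁
  let v₂ := Algebra.TensorProduct.lift (Algebra.ofId R' E)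
    (((Algebra.TensorProduct.includeRight : F →ₐ[A'] E).restrictScalars A).comp w₂) fun _ _ => Commute.all _ _
  have hv₂ : v₂.toRingHom.Etale := etale_lift_baseChange (A'' := R') w₂ hw₂
  let dB := (Algebra.TensorProduct.cancelBaseChange R A R' R' B).symm
  let dC := (Algebra.TensorProduct.cancelBaseChange D A R' R' C).symm
  let gB : R' ⊗[R] B →+* E := v₁.toRingHom.comp dB.toRingEquiv.toRingHom
  let θ : C ⊗[D] R' →+* E := (v₂.toRingHom.comp dC.toRingEquiv.toRingHom).comp
    (Algebra.TensorProduct.comm D C R').toRingEquiv.toRingHom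
  let fB : B →+* E := gB.comp (Algebra.TensorProduct.includeRight : B →ₐ[R] R' ⊗[R] B).toRingHom
  have hgB : ∀ (r : R') (b : B), gB (r ⊗ₜ[R] b) = r ⊗ₜ[A'] w₁ ((1 : A) ⊗ₜ[R] b) := fun r b => by
    show v₁ (dB (r ⊗ₜ[R] b)) = _
    rw [show dB (r ⊗ₜ[R] b) = r ⊗ₜ[A] ((1 : A) ⊗ₜ[R] b) from
      Algebra.TensorProduct.cancelBaseChange_symm_tmul _ _ _ _ _ _ _]
    refine (Algebra.TensorProduct.lift_tmul _ _ _ _ _).trans ?_
    show (r ⊗ₜ[A'] (1 : F)) * ((1 : R') ⊗ₜ[A'] w₁ ((1 : A) ⊗ₜ[R] b)) = _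
    rw [Algebra.TensorProduct.tmul_mul_tmul, one_mul, mul_one]
  have hθ : ∀ (c : C) (r : R'), θ (c ⊗ₜ[D] r) = r ⊗ₜ[A'] w₂ ((1 : A) ⊗ₜ[D] c) := fun c r => by
    show v₂ (dC (r ⊗ₜ[D] c)) = _
    rw [show dC (r ⊗ₜ[D] c) = r ⊗ₜ[A] ((1 : A) ⊗ₜ[D] c) from
      Algebra.TensorProduct.cancelBaseChange_symm_tmul _ _ _ _ _ _ _]
    refine (Algebra.TensorProduct.lift_tmul _ _ _ _ _).trans ?_
    show (r ⊗ₜ[A'] (1 : F)) * ((1 : R') ⊗ₜ[A'] w₂ ((1 : A) ⊗ₜ[D] c)) = _
    rw [Algebra.TensorProduct.tmul_mul_tmul, one_mul, mul_one]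
  refine ⟨E, inferInstance, fB, θ, πE.toRingHom, ?_, ?_, fun r => ?_, fun b => ?_, fun c r => ?_⟩
  · refine RingHom.Etale.stableUnderComposition _ _ ?_
      (etale_bijective_comp dB.toRingEquiv.toRingHom _ dB.bijective hv₁)
    have he : (algebraMap B (B ⊗[R] R')).Etale := RingHom.etale_algebraMap.2 inferInstance
    refine (congrArg RingHom.Etale ?_).mp (etale_comp_bijective _
      (Algebra.TensorProduct.comm R B R').toRingEquiv.toRingHom he (Algebra.TensorProduct.comm R B R').bijective)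
    exact RingHom.ext fun b => rfl
  · exact etale_bijective_comp (Algebra.TensorProduct.comm D C R').toRingEquiv.toRingHom _
      (Algebra.TensorProduct.comm D C R').bijective
      (etale_bijective_comp dC.toRingEquiv.toRingHom _ dC.bijective hv₂)
  · show gB ((1 : R') ⊗ₜ[R] algebraMap R B r) = _
    rw [← Algebra.TensorProduct.tmul_one_eq_one_tmul, hgB, hθ]
    refine congrArg _ ?_
    rw [show (1 : A) ⊗ₜ[R] (1 : B) = (1 : A ⊗[R] B) from rfl,
      show (1 : A) ⊗ₜ[D] (1 : C) = (1 : A ⊗[D] C) from rfl, map_one, map_one]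
  · show πE (gB ((1 : R') ⊗ₜ[R] b)) = _
    rw [hgB, hπE, map_one, one_mul]
  · show πE (θ (c ⊗ₜ[D] r)) = _
    rw [hθ, hπE]

/-- Étale neighbourhoods of a point with completion isomorphic to that of a base change along a map
to the completion of the base. -/
theorem exists_ring_model {R Rs B Lx D C LY : Type u} [CommRing R] [IsNoetherianRing R] (p : Ideal R) [p.IsPrime]
    [CommRing Rs] [IsLocalRing Rs] [IsNoetherianRing Rs] [Algebra R Rs] [IsLocalization.AtPrime Rs p] (hG : CAlg.IsGRing Rs)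
    [CommRing B] [Algebra R B] [Algebra.FiniteType R B] (P : Ideal B) [P.IsPrime]
    [CommRing Lx] [IsLocalRing Lx] [Algebra B Lx] [IsLocalization.AtPrime Lx P]
    (ρ : Rs →+* Lx) [IsLocalHom ρ] (hρ : ρ.comp (algebraMap R Rs) = (algebraMap B Lx).comp (algebraMap R B))
    [CommRing D] [Algebra.FiniteType ℤ D] [Algebra D (AdicCompletion (maximalIdeal Rs) Rs)]
    [CommRing C] [Algebra D C] [Algebra.FiniteType D C]
    (Qh : Ideal (AdicCompletion (maximalIdeal Rs) Rs ⊗[D] C)) [Qh.IsPrime]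
    [CommRing LY] [IsLocalRing LY] [Algebra (AdicCompletion (maximalIdeal Rs) Rs ⊗[D] C) LY]
    [IsLocalization.AtPrime LY Qh]
    (φ : AdicCompletion (maximalIdeal Lx) Lx ≃+* AdicCompletion (maximalIdeal LY) LY)
    (hφ : ∀ r : Rs, φ (algebraMap Lx _ (ρ r)) = algebraMap LY _
      (algebraMap (AdicCompletion (maximalIdeal Rs) Rs ⊗[D] C) LY
        (algebraMap Rs (AdicCompletion (maximalIdeal Rs) Rs) r ⊗ₜ[D] (1 : C)))) :
    ∃ (R' : Type u) (_ : CommRing R') (_ : Algebra R R') (_ : Algebra D R') (_ : Algebra.Etale R R')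
      (p' : Ideal R') (_ : p'.IsPrime)
      (E : Type u) (_ : CommRing E) (fB : B →+* E) (θ : C ⊗[D] R' →+* E) (w : Ideal E) (_ : w.IsPrime),
      p'.comap (algebraMap R R') = p ∧
      IsFrac (algebraMap R R') p' ∧
      p'.comap (algebraMap D R') =
        (maximalIdeal (AdicCompletion (maximalIdeal Rs) Rs)).comap (algebraMap D (AdicCompletion (maximalIdeal Rs) Rs)) ∧
      fB.Etale ∧ θ.Etale ∧
      (∀ r : R, fB (algebraMap R B r) = θ ((1 : C) ⊗ₜ[D] algebraMap R R' r)) ∧
      w.comap fB = P ∧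
      (∀ c : C, θ (c ⊗ₜ[D] (1 : R')) ∈ w ↔ (1 : AdicCompletion (maximalIdeal Rs) Rs) ⊗ₜ[D] c ∈ Qh) ∧
      (∀ r : R', θ ((1 : C) ⊗ₜ[D] r) ∈ w ↔ r ∈ p') ∧
      IsFrac fB w ∧ IsFrac θ w := by
  haveI : IsNoetherianRing D := Algebra.FiniteType.isNoetherianRing ℤ D
  let T := AdicCompletion (maximalIdeal Rs) Rs
  haveI : IsNoetherianRing T := AdicRingLib.isNoetherianRing_adicCompletion _
  have hfg : (maximalIdeal Rs).FG := IsNoetherian.noetherian _
  have hmT : maximalIdeal T = (maximalIdeal Rs).map (algebraMap Rs T) := AdicCompletion.maximalIdeal_eq_map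
  haveI : IsAdicComplete (maximalIdeal T) T := by
    rw [hmT]; exact (IsAdicComplete.map_algebraMap_iff _ _).2 (AdicCompletion.isAdicComplete hfg)
  have hGT : CAlg.IsGRing T := Groth.Agent.S0598.result T
  haveI : IsNoetherianRing B := Algebra.FiniteType.isNoetherianRing R B
  haveI : IsNoetherianRing Lx := IsLocalization.isNoetherianRing P.primeCompl Lx inferInstance
  -- the base change of `B` to `T`
  let BT := T ⊗[R] B
  haveI : IsNoetherianRing BT := Algebra.FiniteType.isNoetherianRing T BT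
  obtain ⟨P', hP'i, hP', hLx⟩ := exists_prime_baseChange (Rs := Rs) (Lx := Lx) p P ρ hρ
  obtain ⟨L, _, _, _, _⟩ : ∃ (L : Type u) (_ : CommRing L) (_ : IsLocalRing L) (_ : Algebra BT L),
      IsLocalization.AtPrime L P' :=
    ⟨Localization.AtPrime P', inferInstance, inferInstance, inferInstance, inferInstance⟩
  haveI : IsNoetherianRing L := IsLocalization.isNoetherianRing P'.primeCompl L inferInstance
  obtain ⟨ξ, hξ, hξres, hξρ, ec, hec⟩ := hLx L
  have hGL : CAlg.IsGRing L := isGRing_localization (R := T) (B := BT) P'.primeCompl hGT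
    ((algebraMap BT L).comp (algebraMap T BT)) (RingHom.ext fun _ => rfl)
  have hξm : ∀ a ∈ maximalIdeal Lx, ξ a ∈ maximalIdeal L := fun a ha hu => by
    have h1 : IsUnit (ec (algebraMap Lx _ a)) := by rw [hec]; exact hu.map _
    have h2 : IsUnit (algebraMap Lx (AdicCompletion (maximalIdeal Lx) Lx) a) := by
      simpa using h1.map ec.symm
    have h3 : algebraMap Lx (AdicCompletion (maximalIdeal Lx) Lx) a ∈
        maximalIdeal (AdicCompletion (maximalIdeal Lx) Lx) := by
      rw [AdicCompletion.maximalIdeal_eq_map]; exact Ideal.mem_map_of_mem _ ha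
    exact h3 h2
  haveI : IsLocalHom ξ := ⟨fun a ha => by
    by_contra h
    exact hξm a h ha⟩
  -- the base change of `C` to `T`
  let CT := T ⊗[D] C
  haveI : IsNoetherianRing CT := Algebra.FiniteType.isNoetherianRing T CT
  haveI : IsNoetherianRing LY := IsLocalization.isNoetherianRing Qh.primeCompl LY inferInstance
  let Th := AdicCompletion (maximalIdeal L) L
  haveI : IsNoetherianRing Th := AdicRingLib.isNoetherianRing_adicCompletion _
  have hmTh : maximalIdeal Th = (maximalIdeal L).map (algebraMap L Th) := AdicCompletion.maximalIdeal_eq_map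
  let φ' : AdicCompletion (maximalIdeal LY) LY ≃+* Th := φ.symm.trans ec
  have hφR : ∀ r : Rs, φ' (algebraMap LY _ (algebraMap CT LY (algebraMap T CT (algebraMap Rs T r)))) =
      algebraMap L Th (algebraMap BT L (algebraMap T BT (algebraMap Rs T r))) := fun r => by
    show ec (φ.symm (algebraMap LY _ (algebraMap CT LY (algebraMap Rs T r ⊗ₜ[D] (1 : C))))) =
      algebraMap L Th (algebraMap BT L (algebraMap Rs T r ⊗ₜ[R] (1 : B)))
    rw [← hφ, RingEquiv.symm_apply_apply, hec, hξρ]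
  have hφT : ∀ t : T, φ' (algebraMap LY _ (algebraMap CT LY (algebraMap T CT t))) =
      algebraMap L Th (algebraMap BT L (algebraMap T BT t)) := by
    intro t
    haveI : IsHausdorff (maximalIdeal Th) Th := by
      rw [hmTh]
      exact ((IsAdicComplete.map_algebraMap_iff _ _).2
        (AdicCompletion.isAdicComplete (IsNoetherian.noetherian (maximalIdeal L)))).toIsHausdorff
    have hext := CompleteLib.completion_hom_ext (maximalIdeal Rs) (maximalIdeal Th) hfg
      ((algebraMap L Th).comp ((algebraMap BT L).comp (algebraMap T BT)))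
      (φ'.toRingHom.comp ((algebraMap LY _).comp ((algebraMap CT LY).comp (algebraMap T CT))))
      (Ideal.map_le_iff_le_comap.2 fun a ha => by
        show algebraMap L Th (algebraMap BT L (algebraMap Rs T a ⊗ₜ[R] (1 : B))) ∈ maximalIdeal Th
        rw [← hξρ, hmTh]
        exact Ideal.mem_map_of_mem _ (hξm _ fun h => ha (IsLocalHom.map_nonunit a h)))
      (fun r => (hφR r).symm)
    exact (RingHom.congr_fun hext t).symm
  obtain ⟨E₀, _, _, u, u', hu, hu', K, _, π, ι, hι, hπu, hπu'⟩ :=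
    exists_common_etale_ring (T := T) (BT := BT) (CT := CT) (L := L) (LY := LY) P' Qh hGL φ' hφT
  -- the finite type base
  let A₁ := R ⊗[ℤ] D
  letI : Algebra D A₁ := Algebra.TensorProduct.rightAlgebra
  haveI : IsNoetherianRing A₁ := Algebra.FiniteType.isNoetherianRing R A₁
  let a₁ : A₁ →ₐ[R] T := Algebra.TensorProduct.lift (Algebra.ofId R T) (algebraMap D T).toIntAlgHom
    fun _ _ => Commute.all _ _
  letI : Algebra A₁ T := a₁.toRingHom.toAlgebra
  haveI : IsScalarTower R A₁ T := IsScalarTower.of_algebraMap_eq (R := R) (S := A₁) (A := T) fun r => (a₁.commutes r).symm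
  haveI : IsScalarTower D A₁ T := IsScalarTower.of_algebraMap_eq (R := D) (S := A₁) (A := T) fun d => by
    show algebraMap D T d = a₁ ((1 : R) ⊗ₜ[ℤ] d)
    refine Eq.trans ?_ (Algebra.TensorProduct.lift_tmul _ _ _ _ _).symm
    rw [map_one, one_mul]
    rfl
  letI : Algebra A₁ E₀ := ((algebraMap T E₀).comp (algebraMap A₁ T)).toAlgebra
  haveI : IsScalarTower A₁ T E₀ := IsScalarTower.of_algebraMap_eq fun _ => rfl
  haveI : Algebra.FinitePresentation R B := Algebra.FinitePresentation.of_finiteType.1 inferInstance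
  haveI : Algebra.FinitePresentation D C := Algebra.FinitePresentation.of_finiteType.1 inferInstance
  let cB := Algebra.TensorProduct.cancelBaseChange R A₁ T T B
  let cC := Algebra.TensorProduct.cancelBaseChange D A₁ T T C
  obtain ⟨A', _, _, _, a, F, _, _, _, _, θ₀, w₁, w₂, hw₁, hw₂, hθa, hθ₁, hθ₂⟩ :=
    exists_descend_pair (A := A₁) (T := T) (M := A₁ ⊗[R] B) (M' := A₁ ⊗[D] C) (E := E₀)
      (u.comp cB.toAlgHom) (etale_bijective_comp cB.toRingEquiv.toRingHom _ cB.bijective hu)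
      (u'.comp cC.toAlgHom) (etale_bijective_comp cC.toRingEquiv.toRingHom _ cC.bijective hu')
  -- approximate on the base
  letI : Algebra R A' := ((algebraMap A₁ A').comp (algebraMap R A₁)).toAlgebra
  haveI : IsScalarTower R A₁ A' := IsScalarTower.of_algebraMap_eq (R := R) (S := A₁) (A := A') fun _ => rfl
  haveI : Algebra.FiniteType R A' :=
    Algebra.FiniteType.trans (inferInstance : Algebra.FiniteType R A₁) (inferInstance : Algebra.FiniteType A₁ A')
  haveI : Algebra.FinitePresentation R A' := Algebra.FinitePresentation.of_finiteType.1 inferInstance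
  obtain ⟨R', _, _, hR', g, p', hp'i, hcomap, hgmem, hlocal⟩ :=
    exists_local_approx (B := R) (L := Rs) (D := A') p hG (a.restrictScalars R) (show 1 ≤ 1 from le_rfl)
  obtain ⟨L', _, _, _, _⟩ : ∃ (L' : Type u) (_ : CommRing L') (_ : IsLocalRing L') (_ : Algebra R' L'),
      IsLocalization.AtPrime L' p' :=
    ⟨Localization.AtPrime p', inferInstance, inferInstance, inferInstance, inferInstance⟩
  let κ : Rs →+* L' := IsLocalization.lift (M := p.primeCompl) (g := (algebraMap R' L').comp (algebraMap R R'))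
    fun s => IsLocalization.map_units (M := p'.primeCompl) L' ⟨algebraMap R R' s, fun h => s.2 (hcomap.le h)⟩
  have hκ : κ.comp (algebraMap R Rs) = (algebraMap R' L').comp (algebraMap R R') := IsLocalization.lift_comp _
  obtain ⟨hκs, hκc⟩ := hlocal L' κ hκ
  haveI : IsLocalHom κ := ⟨fun x hx => by
    by_contra h
    exact map_mem_maximalIdeal p p' hcomap κ hκ x h hx⟩
  let χ : ResidueField Rs →+* K := ι.comp ((ResidueField.map ξ).comp (ResidueField.map ρ))
  let eκ : ResidueField Rs ≃+* ResidueField L' := RingEquiv.ofBijective (ResidueField.map κ)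
    ⟨RingHom.injective _, fun z => by
      obtain ⟨x, rfl⟩ := residue_surjective z
      obtain ⟨c, hc⟩ := hκs x
      exact ⟨residue Rs c, (Ideal.Quotient.eq.2 hc).symm⟩⟩
  let κR : R' →+* K := χ.comp (eκ.symm.toRingHom.comp ((residue L').comp (algebraMap R' L')))
  have hκR : ∀ (r' : R') (c : Rs), algebraMap R' L' r' - κ c ∈ maximalIdeal L' → κR r' = χ (residue Rs c) := by
    intro r' c h
    show χ (eκ.symm (residue L' (algebraMap R' L' r'))) = χ (residue Rs c)
    refine congrArg χ ((RingEquiv.symm_apply_eq eκ).2 ?_)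
    exact Ideal.Quotient.eq.2 h
  have hκRR : ∀ r : R, κR (algebraMap R R' r) = χ (residue Rs (algebraMap R Rs r)) := fun r =>
    hκR _ _ (by rw [← RingHom.comp_apply κ, hκ, RingHom.comp_apply, sub_self]; exact Ideal.zero_mem _)
  have hκRp : ∀ r' : R', κR r' = 0 ↔ r' ∈ p' := fun r' => by
    show χ (eκ.symm (residue L' (algebraMap R' L' r'))) = 0 ↔ _
    rw [map_eq_zero_iff χ χ.injective, map_eq_zero_iff eκ.symm eκ.symm.injective, residue_eq_zero_iff]
    exact IsLocalization.AtPrime.to_map_mem_maximal_iff L' p' r'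
  have hπT : ∀ (t : T) (c : Rs), t - algebraMap Rs T c ∈ maximalIdeal T →
      π (algebraMap T E₀ t) = χ (residue Rs c) := by
    have h0 : ∀ c : Rs, π (algebraMap T E₀ (algebraMap Rs T c)) = χ (residue Rs c) := fun c => by
      rw [← u.commutes (algebraMap Rs T c), hπu]
      show ι (residue L (algebraMap BT L (algebraMap Rs T c ⊗ₜ[R] (1 : B)))) = _
      rw [← hξρ]
      rfl
    intro t c h
    rw [← h0, ← sub_eq_zero, ← map_sub π, ← map_sub]
    rw [hmT] at h
    refine (Ideal.map_le_iff_le_comap (K := RingHom.ker (π.comp (algebraMap T E₀)))).2 (fun z hz => ?_) h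
    show π (algebraMap T E₀ (algebraMap Rs T z)) = 0
    rw [h0, (residue_eq_zero_iff z).2 hz, map_zero]
  have hdenseT : ∀ t : T, ∃ c : Rs, t - algebraMap Rs T c ∈ maximalIdeal T ∧
      AdicCompletion.evalₐ (maximalIdeal Rs) 1 t = Ideal.Quotient.mk (maximalIdeal Rs ^ 1) c := fun t => by
    obtain ⟨c, hc⟩ := AdicRingLib.exists_sub_mem_map_pow hfg 1 t
    refine ⟨c, by rw [hmT]; simpa using hc, ?_⟩
    have h0 := evalₐ_eq_zero _ _ _ hc
    rw [map_sub, AlgHom.commutes, Ideal.Quotient.algebraMap_eq, sub_eq_zero] at h0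
    exact h0
  have hg : ∀ α : A', κR (g α) = π (algebraMap T E₀ (a α)) := fun α => by
    obtain ⟨c, hc, hc'⟩ := hdenseT (a α)
    rw [hπT _ c hc]
    refine hκR _ c ?_
    have := hκc α c hc'
    rwa [pow_one] at this
  -- the neighbourhood
  letI : Algebra A' R' := g.toRingHom.toAlgebra
  letI : Algebra A₁ R' := (g.toRingHom.comp (algebraMap A₁ A')).toAlgebra
  haveI : IsScalarTower A₁ A' R' := IsScalarTower.of_algebraMap_eq (R := A₁) (S := A') (A := R') fun _ => rfl
  haveI : IsScalarTower R A₁ R' := IsScalarTower.of_algebraMap_eq (R := R) (S := A₁) (A := R') fun r => by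
    show algebraMap R R' r = g (algebraMap A₁ A' (algebraMap R A₁ r))
    exact (g.commutes r).symm
  letI : Algebra D R' := ((algebraMap A₁ R').comp (algebraMap D A₁)).toAlgebra
  haveI : IsScalarTower D A₁ R' := IsScalarTower.of_algebraMap_eq (R := D) (S := A₁) (A := R') fun _ => rfl
  obtain ⟨E, _, fB, θ, πE, hfB, hθe, hcompat, hfBπ, hθπ⟩ :=
    exists_model_point (A := A₁) w₁ w₂ hw₁ hw₂ κR (π.comp θ₀) fun α => by
      show κR (g α) = π (θ₀ (algebraMap A' F α))
      rw [hg, hθa]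
  have hπB : ∀ b : B, πE (fB b) = ι (residue L (ξ (algebraMap B Lx b))) := fun b => by
    rw [hfBπ, RingHom.comp_apply, hθ₁]
    show π (u (cB ((1 : T) ⊗ₜ[A₁] ((1 : A₁) ⊗ₜ[R] b)))) = _
    rw [show cB ((1 : T) ⊗ₜ[A₁] ((1 : A₁) ⊗ₜ[R] b)) = (1 : T) ⊗ₜ[R] b by
      exact (Algebra.TensorProduct.cancelBaseChange_tmul _ _ _ _ _ _ _ _).trans (congrArg (· ⊗ₜ[R] b) (one_smul A₁ (1 : T))), hπu, hξ]
  have hπC : ∀ c : C, πE (θ (c ⊗ₜ[D] (1 : R'))) = π (u' ((1 : T) ⊗ₜ[D] c)) := fun c => by
    rw [hθπ, map_one, one_mul, RingHom.comp_apply, hθ₂]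
    show π (u' (cC ((1 : T) ⊗ₜ[A₁] ((1 : A₁) ⊗ₜ[D] c)))) = _
    refine congrArg (fun z => π (u' z)) ?_
    exact (Algebra.TensorProduct.cancelBaseChange_tmul _ _ _ _ _ _ _ _).trans (congrArg (· ⊗ₜ[D] c) (one_smul A₁ (1 : T)))
  have hπR : ∀ r : R', πE (θ ((1 : C) ⊗ₜ[D] r)) = κR r := fun r => by
    rw [hθπ, show (1 : A₁) ⊗ₜ[D] (1 : C) = (1 : A₁ ⊗[D] C) from rfl, map_one, map_one, mul_one]
  -- values at the point of elements of `T ⊗ C`
  have hcongr : ∀ z : CT, ∃ l : L, φ' (algebraMap LY _ (algebraMap CT LY z)) - algebraMap L Th l ∈ maximalIdeal Th ∧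
      π (u' z) = ι (residue L l) := fun z => by
    obtain ⟨l, hl⟩ := AdicRingLib.exists_sub_mem_map_pow (IsNoetherian.noetherian (maximalIdeal L)) 1
      (φ' (algebraMap LY _ (algebraMap CT LY z)))
    rw [pow_one, ← hmTh] at hl
    exact ⟨l, hl, hπu' z l hl⟩
  have hQh : ∀ z : CT, π (u' z) = 0 ↔ z ∈ Qh := fun z => by
    obtain ⟨l, hl, hzl⟩ := hcongr z
    rw [hzl, map_eq_zero_iff ι ι.injective, residue_eq_zero_iff,
      ← IsLocalization.AtPrime.to_map_mem_maximal_iff LY Qh z]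
    constructor
    · intro h hu
      have h1 : algebraMap L Th l ∈ maximalIdeal Th := by rw [hmTh]; exact Ideal.mem_map_of_mem _ h
      have h2 := add_mem hl h1
      rw [sub_add_cancel] at h2
      exact h2 ((hu.map (algebraMap LY _)).map φ')
    · intro h
      by_contra hu
      have h1 : φ' (algebraMap LY _ (algebraMap CT LY z)) ∈ maximalIdeal Th := by
        rw [← map_maximalIdeal_of_surjective φ'.toRingHom φ'.surjective]
        refine Ideal.mem_map_of_mem φ'.toRingHom ?_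
        rw [AdicCompletion.maximalIdeal_eq_map]
        exact Ideal.mem_map_of_mem _ h
      have h2 := sub_mem h1 hl
      rw [sub_sub_cancel] at h2
      exact h2 ((notMem_maximalIdeal.1 hu).map _)
  have hfrac : ∀ z : CT, ∃ z₁ z₂ : C ⊗[D] R', πE (θ z₂) ≠ 0 ∧ π (u' z) * πE (θ z₂) = πE (θ z₁) := by
    intro z
    induction z using TensorProduct.induction_on with
    | zero => exact ⟨0, 1, by simp, by simp⟩
    | add x y hx hy =>
      obtain ⟨x₁, x₂, hx0, hx⟩ := hx
      obtain ⟨y₁, y₂, hy0, hy⟩ := hy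
      refine ⟨x₁ * y₂ + y₁ * x₂, x₂ * y₂, ?_, ?_⟩
      · rw [map_mul, map_mul]; exact mul_ne_zero hx0 hy0
      · simp only [map_add, map_mul]
        rw [← hx, ← hy]; ring
    | tmul t c =>
      obtain ⟨r, hr, -⟩ := hdenseT t
      obtain ⟨r₁, r₂, rfl⟩ := IsLocalization.exists_mk'_eq p.primeCompl r
      refine ⟨c ⊗ₜ[D] algebraMap R R' r₁, (1 : C) ⊗ₜ[D] algebraMap R R' (r₂ : R), ?_, ?_⟩
      · rw [hπR, Ne, hκRp]
        exact fun h => r₂.2 (hcomap.le h)
      · rw [show c ⊗ₜ[D] algebraMap R R' r₁ = (c ⊗ₜ[D] (1 : R')) * ((1 : C) ⊗ₜ[D] algebraMap R R' r₁) by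
          rw [Algebra.TensorProduct.tmul_mul_tmul, one_mul, mul_one], map_mul, map_mul, hπR, hπR, hπC,
          hκRR, hκRR, ← IsLocalization.mk'_spec Rs r₁ r₂, map_mul, map_mul, ← hπT t _ hr,
          show t ⊗ₜ[D] c = algebraMap T CT t * ((1 : T) ⊗ₜ[D] c) by
            rw [Algebra.TensorProduct.algebraMap_apply, Algebra.algebraMap_self, RingHom.id_apply,
              Algebra.TensorProduct.tmul_mul_tmul, one_mul, mul_one], map_mul, map_mul, u'.commutes]
        ring
  let w : Ideal E := RingHom.ker πE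
  haveI hwi : w.IsPrime := RingHom.ker_isPrime _
  have hmem : ∀ e : E, e ∈ w ↔ πE e = 0 := fun e => Iff.rfl
  refine ⟨R', inferInstance, inferInstance, inferInstance, hR', p', hp'i, E, inferInstance, fB, θ, w, hwi,
    hcomap, fun r' => ?_, ?_, ?_, ?_, fun r => ?_, ?_, fun c => ?_, fun r => ?_, fun e => ?_, fun e => ?_⟩
  · obtain ⟨c, hc⟩ := hκs (algebraMap R' L' r')
    obtain ⟨r₁, r₂, rfl⟩ := IsLocalization.exists_mk'_eq p.primeCompl c
    refine ⟨r₁, r₂, fun h => r₂.2 (hcomap.le h), (hκRp _).1 ?_⟩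
    rw [map_sub, map_mul, hκRR, hκRR, hκR r' _ hc, ← map_mul, ← map_mul, IsLocalization.mk'_spec, sub_self]
  · ext d
    show g (algebraMap A₁ A' (algebraMap D A₁ d)) ∈ p' ↔ algebraMap D T d ∈ maximalIdeal T
    rw [hgmem, AlgHom.restrictScalars_apply, a.commutes, ← IsScalarTower.algebraMap_apply D A₁ T]
  · exact hfB
  · exact hθe
  · exact hcompat r
  · ext b
    rw [Ideal.mem_comap, hmem, hπB, map_eq_zero_iff ι ι.injective, residue_eq_zero_iff,
      ← IsLocalization.AtPrime.to_map_mem_maximal_iff Lx P b]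
    exact ⟨fun h => by
      by_contra hu
      exact h ((notMem_maximalIdeal.1 hu).map ξ), hξm _⟩
  · rw [hmem, hπC, hQh]
  · rw [hmem, hπR, hκRp]
  · obtain ⟨l, hl⟩ := hι (πE e)
    obtain ⟨x, rfl⟩ := residue_surjective l
    obtain ⟨c, hc⟩ := hξres x
    obtain ⟨b₁, b₂, rfl⟩ := IsLocalization.exists_mk'_eq P.primeCompl c
    refine ⟨b₁, b₂, fun h => ?_, ?_⟩
    · rw [hmem, hπB, map_eq_zero_iff ι ι.injective, residue_eq_zero_iff] at h
      exact h ((IsLocalization.map_units Lx b₂).map ξ)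
    · rw [hmem, map_sub, map_mul, hπB, hπB, ← hl, show residue L x = residue L (ξ (IsLocalization.mk' Lx b₁ b₂))
        from Ideal.Quotient.eq.2 hc, ← map_mul ι, ← map_mul, ← map_mul ξ, IsLocalization.mk'_spec, sub_self]
  · obtain ⟨lr, hl⟩ := hι (πE e)
    obtain ⟨l, rfl⟩ := residue_surjective lr
    obtain ⟨y, hy⟩ := AdicRingLib.exists_sub_mem_map_pow (IsNoetherian.noetherian (maximalIdeal LY)) 1
      (φ'.symm (algebraMap L Th l))
    obtain ⟨n, d, rfl⟩ := IsLocalization.exists_mk'_eq Qh.primeCompl y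
    rw [pow_one, ← AdicCompletion.maximalIdeal_eq_map] at hy
    have hy' : algebraMap L Th l - φ' (algebraMap LY _ (IsLocalization.mk' LY n d)) ∈ maximalIdeal Th := by
      rw [← map_maximalIdeal_of_surjective φ'.toRingHom φ'.surjective]
      have h := Ideal.mem_map_of_mem φ'.toRingHom hy
      simpa using h
    obtain ⟨ld, hld, hπd⟩ := hcongr (d : CT)
    have hn : π (u' n) = πE e * π (u' (d : CT)) := by
      rw [hπd, ← hl, ← map_mul ι, ← map_mul]
      refine hπu' n _ ?_
      have h1 := Ideal.mul_mem_right (φ' (algebraMap LY _ (algebraMap CT LY (d : CT)))) _ hy'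
      have h2 := Ideal.mul_mem_left _ (algebraMap L Th l) hld
      have h3 := sub_mem h2 h1
      rw [sub_mul, ← map_mul φ', ← map_mul (algebraMap LY _), IsLocalization.mk'_spec, mul_sub,
        ← map_mul (algebraMap L Th)] at h3
      simpa using h3
    obtain ⟨n₁, n₂, hn0, hn'⟩ := hfrac n
    obtain ⟨d₁, d₂, hd0, hd'⟩ := hfrac (d : CT)
    have hd1 : πE (θ d₁) ≠ 0 := by
      rw [← hd']
      exact mul_ne_zero (fun h => d.2 ((hQh _).1 h)) hd0
    refine ⟨n₁ * d₂, d₁ * n₂, fun h => ?_, ?_⟩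
    · rw [hmem, map_mul, map_mul] at h
      exact mul_ne_zero hd1 hn0 h
    · rw [hmem, map_sub, map_mul, map_mul, map_mul, map_mul, map_mul, ← hn', ← hd', hn]
      ring

end ApproxLib
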