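import Groth.Agent.ApproxLib.SpecChart
import Groth.Agent.ApproxLib.RingModel
import Mathlib

/-!
# Residue fields and stalks in affine charts
-/

set_option autoImplicit false

universe u

open CategoryTheory AlgebraicGeometry TopologicalSpace Opposite IsLocalRing

namespace ApproxLib

theorem isFrac_residue {Z E L : Type u} [CommRing Z] [CommRing E] [CommRing L] [IsLocalRing L] [Algebra E L]
    (f : Z →+* E) (w : Ideal E) [w.IsPrime] [IsLocalization.AtPrime L w] (h : IsFrac f w) (z : L) :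
    ∃ z₁ z₂ : Z, IsUnit (algebraMap E L (f z₂)) ∧ z * algebraMap E L (f z₂) - algebraMap E L (f z₁) ∈ maximalIdeal L := by
  obtain ⟨e, t, rfl⟩ := IsLocalization.exists_mk'_eq w.primeCompl z
  obtain ⟨e₁, e₂, he2, he⟩ := h e
  obtain ⟨t₁, t₂, ht2, ht⟩ := h t
  have ht1 : f t₁ ∉ w := fun h1 => by
    have h2 := add_mem ht h1
    rw [sub_add_cancel] at h2
    exact (Ideal.IsPrime.mem_or_mem ‹_› h2).elim t.2 ht2
  refine ⟨e₁ * t₂, e₂ * t₁, IsLocalization.map_units L (⟨f (e₂ * t₁), ?_⟩ : w.primeCompl), ?_⟩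
  · rw [map_mul]; exact fun h1 => (Ideal.IsPrime.mem_or_mem ‹_› h1).elim he2 ht1
  refine (Ideal.mul_unit_mem_iff_mem _ (IsLocalization.map_units L t)).1 ?_
  rw [sub_mul, mul_assoc, mul_comm (algebraMap E L (f (e₂ * t₁))), ← mul_assoc, IsLocalization.mk'_spec,
    ← map_mul, ← map_mul, ← map_sub, map_mul, map_mul]
  refine (IsLocalization.AtPrime.to_map_mem_maximal_iff L w _).2 ?_
  have h4 : e * (f e₂ * f t₁) - f e₁ * f t₂ * t =
      (e * f e₂ - f e₁) * f t₁ - f e₁ * (t * f t₂ - f t₁) := by ring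
  rw [h4]
  exact sub_mem (Ideal.mul_mem_right _ _ he) (Ideal.mul_mem_left _ _ ht)

theorem germ_stalkMap_of_eq {X : Scheme.{u}} {U : X.Opens} (hU : IsAffineOpen U) {R' : CommRingCat.{u}}
    (h : Spec R' ⟶ X) (f : Γ(X, U) ⟶ R') (hh : h = Spec.map f ≫ hU.fromSpec) (u : Spec R') (hx : h u ∈ U) :
    X.presheaf.germ U (h u) hx ≫ h.stalkMap u = f ≫ toStalkSpec R' u := by
  subst hh
  have h1 := germ_stalkMap_chart hU f u _ hx rfl
  rw [TopCat.Presheaf.stalkCongr_inv, TopCat.Presheaf.germ_stalkSpecializes_assoc] at h1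
  exact h1

theorem toStalkSpec_stalkMap_of_eq {S R' : CommRingCat.{u}} (h : Spec R' ⟶ Spec S) (g : S ⟶ R')
    (hh : h = Spec.map g) (u : Spec R') :
    toStalkSpec S (h u) ≫ h.stalkMap u = g ≫ toStalkSpec R' u := by
  subst hh
  have hn := Scheme.ΓSpecIso_inv_naturality g
  rw [toStalkSpec, toStalkSpec, reassoc_of% hn, Category.assoc]
  exact congrArg _ (Scheme.Hom.germ_stalkMap (Spec.map g) ⊤ u trivial)

/-- Residual bijectivity of a morphism from a spectrum into an affine open. -/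
theorem residueFieldMap_bijective_of_isFrac {X : Scheme.{u}} {U : X.Opens} (hU : IsAffineOpen U) {R' : CommRingCat.{u}}
    (f : Γ(X, U) ⟶ R') (v : Spec R') (h : IsFrac f.hom v.asIdeal) :
    Function.Bijective ((Spec.map f ≫ hU.fromSpec).residueFieldMap v) := by
  refine ⟨RingHom.injective _, fun z => ?_⟩
  obtain ⟨z, rfl⟩ := Ideal.Quotient.mk_surjective z
  let g := Spec.map f ≫ hU.fromSpec
  have hx : g v ∈ U := hU.range_fromSpec.le ⟨(Spec.map f) v, rfl⟩
  letI : Algebra R' ((Spec R').presheaf.stalk v) := (toStalkSpec R' v).hom.toAlgebra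
  haveI : IsLocalization.AtPrime ((Spec R').presheaf.stalk v) v.asIdeal := isLocalization_toStalkSpec R' v
  obtain ⟨z₁, z₂, hu, hz⟩ := isFrac_residue f.hom v.asIdeal h z
  have hg : ∀ c : Γ(X, U), (g.stalkMap v).hom (X.presheaf.germ U (g v) hx c) =
      algebraMap R' ((Spec R').presheaf.stalk v) (f.hom c) := fun c => by
    exact RingHom.congr_fun (congrArg CommRingCat.Hom.hom (germ_stalkMap_of_eq hU g f rfl v hx)) c
  have hu' : IsUnit (X.presheaf.germ U (g v) hx z₂) := by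
    refine isUnit_of_map_unit (g.stalkMap v).hom _ ?_
    rw [hg]; exact hu
  obtain ⟨a, ha⟩ := hu'
  refine ⟨X.residue (g v) (X.presheaf.germ U (g v) hx z₁ * (↑a⁻¹ : X.presheaf.stalk (g v))), ?_⟩
  refine (CommRingCat.comp_apply _ _ _).symm.trans ?_
  rw [Scheme.residue_residueFieldMap]
  refine (Ideal.Quotient.eq.2 ?_)
  refine (Ideal.mul_unit_mem_iff_mem _ hu).1 ?_
  have h1 : (g.stalkMap v).hom (X.presheaf.germ U (g v) hx z₁ * (↑a⁻¹ : X.presheaf.stalk (g v))) *
      algebraMap R' ((Spec R').presheaf.stalk v) (f.hom z₂) = algebraMap R' _ (f.hom z₁) := by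
    rw [← hg, ← hg, ← map_mul, ← ha, mul_assoc, Units.inv_mul, mul_one]
  rw [sub_mul]
  change (g.stalkMap v).hom _ * _ - z * _ ∈ _
  rw [h1, ← neg_mem_iff, neg_sub]
  exact hz

/-- Residual bijectivity of a morphism of spectra. -/
theorem residueFieldMap_bijective_specMap {S R' : CommRingCat.{u}} (f : S ⟶ R') (v : Spec R')
    (h : IsFrac f.hom v.asIdeal) : Function.Bijective ((Spec.map f).residueFieldMap v) := by
  refine ⟨RingHom.injective _, fun z => ?_⟩
  obtain ⟨z, rfl⟩ := Ideal.Quotient.mk_surjective z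
  letI : Algebra R' ((Spec R').presheaf.stalk v) := (toStalkSpec R' v).hom.toAlgebra
  haveI : IsLocalization.AtPrime ((Spec R').presheaf.stalk v) v.asIdeal := isLocalization_toStalkSpec R' v
  obtain ⟨z₁, z₂, hu, hz⟩ := isFrac_residue f.hom v.asIdeal h z
  have hg : ∀ c : S, ((Spec.map f).stalkMap v).hom (toStalkSpec S ((Spec.map f) v) c) =
      algebraMap R' ((Spec R').presheaf.stalk v) (f.hom c) := fun c => by
    exact RingHom.congr_fun (congrArg CommRingCat.Hom.hom (toStalkSpec_stalkMap_of_eq (Spec.map f) f rfl v)) c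
  have hu' : IsUnit (toStalkSpec S ((Spec.map f) v) z₂) := by
    refine isUnit_of_map_unit ((Spec.map f).stalkMap v).hom _ ?_
    rw [hg]; exact hu
  obtain ⟨a, ha⟩ := hu'
  refine ⟨(Spec S).residue _ (toStalkSpec S ((Spec.map f) v) z₁ * (↑a⁻¹ : (Spec S).presheaf.stalk ((Spec.map f) v))), ?_⟩
  refine (CommRingCat.comp_apply _ _ _).symm.trans ?_
  rw [Scheme.residue_residueFieldMap]
  refine (Ideal.Quotient.eq.2 ?_)
  refine (Ideal.mul_unit_mem_iff_mem _ hu).1 ?_
  have h1 : ((Spec.map f).stalkMap v).hom (toStalkSpec S ((Spec.map f) v) z₁ *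
      (↑a⁻¹ : (Spec S).presheaf.stalk ((Spec.map f) v))) *
      algebraMap R' ((Spec R').presheaf.stalk v) (f.hom z₂) = algebraMap R' _ (f.hom z₁) := by
    rw [← hg, ← hg, ← map_mul, ← ha, mul_assoc, Units.inv_mul, mul_one]
  rw [sub_mul]
  change ((Spec.map f).stalkMap v).hom _ * _ - z * _ ∈ _
  rw [h1, ← neg_mem_iff, neg_sub]
  exact hz

/-- The stalk at a point in the image of an open immersion of a spectrum. -/
theorem exists_stalk_localization {P : Scheme.{u}} {R' : CommRingCat.{u}} (j : Spec R' ⟶ P) [IsOpenImmersion j]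
    (y : P) (hy : y ∈ Set.range j) :
    ∃ (z : Spec R') (ψ : R' →+* P.presheaf.stalk y), j z = y ∧
      @IsLocalization.AtPrime R' _ (P.presheaf.stalk y) _ ψ.toAlgebra z.asIdeal _ ∧
      (∀ {Z : Scheme.{u}} (f : P ⟶ Z) {U : Z.Opens} (hU : IsAffineOpen U) (g : Γ(Z, U) ⟶ R'),
        j ≫ f = Spec.map g ≫ hU.fromSpec → ∀ (hy' : f y ∈ U) (c : Γ(Z, U)),
          (f.stalkMap y).hom (Z.presheaf.germ U (f y) hy' c) = ψ (g c)) ∧
      ∀ {S : CommRingCat.{u}} (f : P ⟶ Spec S) (g : S ⟶ R'), j ≫ f = Spec.map g →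
        ∀ c : S, (f.stalkMap y).hom (toStalkSpec S (f y) c) = ψ (g c) := by
  obtain ⟨z, rfl⟩ := hy
  letI algz : Algebra R' ((Spec R').presheaf.stalk z) := (toStalkSpec R' z).hom.toAlgebra
  haveI : IsLocalization.AtPrime ((Spec R').presheaf.stalk z) z.asIdeal := isLocalization_toStalkSpec R' z
  let e := (asIso (j.stalkMap z)).symm.commRingCatIsoToRingEquiv
  let ψ : R' →+* P.presheaf.stalk (j z) := e.toRingHom.comp (toStalkSpec R' z).hom
  have he : ∀ a, e ((j.stalkMap z).hom a) = a := fun a => by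
    show ((asIso (j.stalkMap z)).hom ≫ (asIso (j.stalkMap z)).inv).hom a = a
    rw [Iso.hom_inv_id]; rfl
  refine ⟨z, ψ, rfl, ?_, fun {Z} f {U} hU g h hy' c => ?_, fun {S} f g h c => ?_⟩
  · letI : Algebra R' (P.presheaf.stalk (j z)) := ψ.toAlgebra
    exact IsLocalization.isLocalization_of_algEquiv z.asIdeal.primeCompl
      { e with commutes' := fun _ => rfl }
  · refine (he _).symm.trans (congrArg e ?_)
    show (Z.presheaf.germ U (f (j z)) hy' ≫ f.stalkMap (j z) ≫ j.stalkMap z).hom c = (g ≫ toStalkSpec R' z).hom c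
    rw [← Scheme.Hom.stalkMap_comp]
    exact RingHom.congr_fun (congrArg CommRingCat.Hom.hom (germ_stalkMap_of_eq hU (j ≫ f) g h z hy')) c
  · refine (he _).symm.trans (congrArg e ?_)
    show (toStalkSpec S (f (j z)) ≫ f.stalkMap (j z) ≫ j.stalkMap z).hom c = (g ≫ toStalkSpec R' z).hom c
    rw [← Scheme.Hom.stalkMap_comp]
    exact RingHom.congr_fun (congrArg CommRingCat.Hom.hom (toStalkSpec_stalkMap_of_eq (j ≫ f) g h z)) c

end ApproxLib
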