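import Mathlib

/-!
# Algebras as filtered colimits of finitely presented algebras, and functors preserving filtered colimits
-/

set_option autoImplicit false

universe u

open CategoryTheory CategoryTheory.Limits TensorProduct

namespace ApproxLib

/-- A finitely presented algebra with a map to `B`. -/
structure Idx (A B : Type u) [CommRing A] [CommRing B] [Algebra A B] : Type u where
  n : ℕ
  I : Ideal (MvPolynomial (Fin n) A)
  fg : I.FG
  hom : (MvPolynomial (Fin n) A ⧸ I) →ₐ[A] B

namespace Idx

variable {A B : Type u} [CommRing A] [CommRing B] [Algebra A B]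

/-- The algebra of an index. -/
abbrev alg (i : Idx A B) : Type u := MvPolynomial (Fin i.n) A ⧸ i.I

instance (i : Idx A B) : Algebra.FinitePresentation A i.alg :=
  Algebra.FinitePresentation.quotient i.fg

noncomputable instance : SmallCategory (Idx A B) where
  Hom i j := {f : i.alg →ₐ[A] j.alg // j.hom.comp f = i.hom}
  id i := ⟨AlgHom.id A _, AlgHom.comp_id _⟩
  comp f g := ⟨g.1.comp f.1, by rw [← AlgHom.comp_assoc, g.2, f.2]⟩
  id_comp f := Subtype.ext (AlgHom.comp_id f.1)
  comp_id f := Subtype.ext (AlgHom.id_comp f.1)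
  assoc f g h := Subtype.ext (AlgHom.comp_assoc h.1 g.1 f.1).symm

theorem exists_from (D : Type u) [CommRing D] [Algebra A D] [Algebra.FinitePresentation A D] (π : D →ₐ[A] B) :
    ∃ (j : Idx A B) (e : D ≃ₐ[A] j.alg), j.hom.comp e.toAlgHom = π := by
  obtain ⟨n, f, hf, hker⟩ := Algebra.FinitePresentation.out (R := A) (A := D)
  let e : (MvPolynomial (Fin n) A ⧸ RingHom.ker f.toRingHom) ≃ₐ[A] D :=
    Ideal.quotientKerAlgEquivOfSurjective hf
  refine ⟨⟨n, RingHom.ker f.toRingHom, hker, π.comp e.toAlgHom⟩, e.symm, ?_⟩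
  ext x
  exact congr_arg π (e.apply_symm_apply x)

theorem exists_sup (i j : Idx A B) : ∃ (k : Idx A B) (_ : i ⟶ k) (_ : j ⟶ k), True := by
  have : Algebra.FinitePresentation A (i.alg ⊗[A] j.alg) :=
    Algebra.FinitePresentation.trans A i.alg (i.alg ⊗[A] j.alg)
  obtain ⟨k, e, he⟩ := exists_from (i.alg ⊗[A] j.alg)
    (Algebra.TensorProduct.lift i.hom j.hom fun _ _ => Commute.all _ _)
  exact ⟨k, ⟨e.toAlgHom.comp Algebra.TensorProduct.includeLeft, by
    rw [← AlgHom.comp_assoc, he, Algebra.TensorProduct.lift_comp_includeLeft]⟩,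
    ⟨e.toAlgHom.comp Algebra.TensorProduct.includeRight, by
    rw [← AlgHom.comp_assoc, he]; ext x; simp⟩, trivial⟩

theorem exists_coeq {i : Idx A B} (F : Finset (i.alg × i.alg)) (hF : ∀ p ∈ F, i.hom p.1 = i.hom p.2) :
    ∃ (k : Idx A B) (f : i ⟶ k), ∀ p ∈ F, f.1 p.1 = f.1 p.2 := by
  classical
  let J : Ideal i.alg := Ideal.span (↑(F.image fun p => p.1 - p.2) : Set i.alg)
  have hJ : ∀ a ∈ J, i.hom a = 0 := fun a ha => by
    refine (Ideal.span_le (I := RingHom.ker i.hom.toRingHom)).mpr ?_ ha
    simp only [Finset.coe_image, Set.image_subset_iff]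
    intro p hp
    simp [hF p hp]
  have : Algebra.FinitePresentation A (i.alg ⧸ J) := Algebra.FinitePresentation.quotient ⟨_, rfl⟩
  obtain ⟨k, e, he⟩ := exists_from (i.alg ⧸ J) (Ideal.Quotient.liftₐ J i.hom hJ)
  refine ⟨k, ⟨e.toAlgHom.comp (Ideal.Quotient.mkₐ A J), by
    rw [← AlgHom.comp_assoc, he]; ext x; simp⟩, fun p hp => congr_arg e ?_⟩
  exact Ideal.Quotient.eq.mpr (Ideal.subset_span (Finset.mem_image_of_mem _ hp))

theorem isFiltered : IsFiltered (Idx A B) where
  cocone_objs i j := by
    obtain ⟨k, f, g, -⟩ := exists_sup i j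
    exact ⟨k, f, g, trivial⟩
  cocone_maps i j f g := by
    classical
    obtain ⟨k, h, hk⟩ := exists_coeq (i := j) (Finset.univ.image fun t =>
        (f.1 (Ideal.Quotient.mk i.I (MvPolynomial.X t)),
          g.1 (Ideal.Quotient.mk i.I (MvPolynomial.X t)))) (fun p hp => by
      obtain ⟨t, -, rfl⟩ := Finset.mem_image.mp hp
      exact (DFunLike.congr_fun f.2 _).trans (DFunLike.congr_fun g.2 _).symm)
    exact ⟨k, h, Subtype.ext (Ideal.Quotient.algHom_ext _ (MvPolynomial.algHom_ext fun t =>
      hk _ (Finset.mem_image_of_mem _ (Finset.mem_univ t))))⟩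
  nonempty := (exists_from A (Algebra.ofId A B)).nonempty

/-- The diagram. -/
noncomputable def diagram (A B : Type u) [CommRing A] [CommRing B] [Algebra A B] :
    Idx A B ⥤ Under (CommRingCat.of A) where
  obj i := CommRingCat.mkUnder (CommRingCat.of A) i.alg
  map f := f.1.toUnder

/-- The cocone with point `B`. -/
noncomputable def cocone (A B : Type u) [CommRing A] [CommRing B] [Algebra A B] : Cocone (diagram A B) where
  pt := CommRingCat.mkUnder (CommRingCat.of A) B
  ι :=
    { app := fun i => i.hom.toUnder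
      naturality := fun i j f => by
        apply CommRingCat.mkUnder_ext
        intro a
        exact DFunLike.congr_fun f.2 a }

/-- The component of a cocone, as a ring map. -/
noncomputable def component (s : Cocone (diagram A B)) (i : Idx A B) : i.alg →+* s.pt.right :=
  (s.ι.app i).right.hom

theorem component_algebraMap (s : Cocone (diagram A B)) (i : Idx A B) (a : A) :
    component s i (algebraMap A i.alg a) = s.pt.hom a :=
  RingHom.congr_fun (congr_arg CommRingCat.Hom.hom (Under.w (s.ι.app i))) a

/-- Any algebra is the colimit of finitely presented algebras. -/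
noncomputable def isColimit : IsColimit (cocone A B) := by
  have hsurj : ∀ b : B, ∃ (i : Idx A B) (x : i.alg), i.hom x = b := fun b => by
    obtain ⟨j, e, he⟩ := exists_from (Polynomial A) (Polynomial.aeval b)
    exact ⟨j, e Polynomial.X, (DFunLike.congr_fun he _).trans (Polynomial.aeval_X b)⟩
  choose idx elt helt using hsurj
  have key : ∀ (s : Cocone (diagram A B)) {i j : Idx A B} (x : i.alg) (y : j.alg),
      i.hom x = j.hom y → component s i x = component s j y := by
    intro s i j x y hxy
    obtain ⟨k, f, g, -⟩ := exists_sup i j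
    obtain ⟨k', h, hk⟩ := exists_coeq (i := k) {(f.1 x, g.1 y)} (fun p hp => by
      rw [Finset.mem_singleton] at hp; subst hp
      exact ((DFunLike.congr_fun f.2 x).trans hxy).trans (DFunLike.congr_fun g.2 y).symm)
    have h0 := hk _ (Finset.mem_singleton_self _)
    have e : ∀ {i : Idx A B} (f : i ⟶ k') (x : i.alg), component s i x = component s k' (f.1 x) :=
      fun f x => (RingHom.congr_fun (congr_arg (fun t => CommRingCat.Hom.hom t.right) (s.w f)) x).symm
    rw [e (f ≫ h) x, e (g ≫ h) y]
    exact congr_arg (component s k') h0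
  refine
    { desc := fun s => Under.homMk (CommRingCat.ofHom
        { toFun := fun b => component s (idx b) (elt b)
          map_one' := (key s (j := idx 1) _ 1 (by rw [helt, map_one])).trans (map_one _)
          map_zero' := (key s (j := idx 0) _ 0 (by rw [helt, map_zero])).trans (map_zero _)
          map_add' := fun a b => ?_
          map_mul' := fun a b => ?_ }) ?_
      fac := fun s i => ?_
      uniq := fun s m hm => ?_ }
  · obtain ⟨k, f, g, -⟩ := exists_sup (idx a) (idx b)
    rw [key s (elt (a * b)) (f.1 (elt a) * g.1 (elt b)) ?_, map_mul,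
      key s (elt a) (f.1 (elt a)) (DFunLike.congr_fun f.2 _).symm,
      key s (elt b) (g.1 (elt b)) (DFunLike.congr_fun g.2 _).symm]
    rw [helt, map_mul, show k.hom (f.1 (elt a)) = a from (DFunLike.congr_fun f.2 _).trans (helt a),
      show k.hom (g.1 (elt b)) = b from (DFunLike.congr_fun g.2 _).trans (helt b)]
  · obtain ⟨k, f, g, -⟩ := exists_sup (idx a) (idx b)
    rw [key s (elt (a + b)) (f.1 (elt a) + g.1 (elt b)) ?_, map_add,
      key s (elt a) (f.1 (elt a)) (DFunLike.congr_fun f.2 _).symm,
      key s (elt b) (g.1 (elt b)) (DFunLike.congr_fun g.2 _).symm]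
    rw [helt, map_add, show k.hom (f.1 (elt a)) = a from (DFunLike.congr_fun f.2 _).trans (helt a),
      show k.hom (g.1 (elt b)) = b from (DFunLike.congr_fun g.2 _).trans (helt b)]
  · ext a
    exact (key s _ (algebraMap A (idx (algebraMap A B a)).alg a)
      ((helt _).trans (AlgHom.commutes _ a).symm)).trans (component_algebraMap s _ a)
  · apply CommRingCat.mkUnder_ext
    intro x
    exact key s _ x (helt _)
  · apply CommRingCat.mkUnder_ext
    intro b
    exact (congr_arg m.right (helt b).symm).trans (RingHom.congr_fun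
      (congr_arg (fun t => CommRingCat.Hom.hom t.right) (hm (idx b))) (elt b))

end Idx

variable {A : Type u} [CommRing A] (F : Under (CommRingCat.of A) ⥤ Type u)
  (hF : ∀ (J : Type u) [SmallCategory J] [IsFiltered J], PreservesColimitsOfShape J F)
include hF

/-- Elements at an algebra come from finitely presented algebras. -/
theorem exists_fp_lift (B : Type u) [CommRing B] [Algebra A B]
    (ξ : F.obj (CommRingCat.mkUnder (CommRingCat.of A) B)) :
    ∃ (D : Type u) (_ : CommRing D) (_ : Algebra A D) (_ : Algebra.FinitePresentation A D) (g : D →ₐ[A] B)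
      (x : F.obj (CommRingCat.mkUnder (CommRingCat.of A) D)), F.map g.toUnder x = ξ := by
  haveI : IsFiltered (Idx A B) := Idx.isFiltered
  haveI := hF (Idx A B)
  have hc := isColimitOfPreserves F (Idx.isColimit (A := A) (B := B))
  obtain ⟨i, x, hx⟩ := Types.jointly_surjective_of_isColimit hc ξ
  exact ⟨i.alg, inferInstance, inferInstance, inferInstance, i.hom, x, hx⟩

/-- Elements at a finitely presented algebra with the same image in an algebra agree at a finitely presented stage. -/
theorem exists_fp_eq (B : Type u) [CommRing B] [Algebra A B] (D₀ : Type u) [CommRing D₀] [Algebra A D₀]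
    [Algebra.FinitePresentation A D₀] (g₀ : D₀ →ₐ[A] B)
    (x y : F.obj (CommRingCat.mkUnder (CommRingCat.of A) D₀)) (h : F.map g₀.toUnder x = F.map g₀.toUnder y) :
    ∃ (D : Type u) (_ : CommRing D) (_ : Algebra A D) (_ : Algebra.FinitePresentation A D) (d : D₀ →ₐ[A] D)
      (g : D →ₐ[A] B), g.comp d = g₀ ∧ F.map d.toUnder x = F.map d.toUnder y := by
  haveI : IsFiltered (Idx A B) := Idx.isFiltered
  haveI := hF (Idx A B)
  have hc := isColimitOfPreserves F (Idx.isColimit (A := A) (B := B))
  obtain ⟨i, e, he⟩ := Idx.exists_from D₀ g₀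
  have hu : g₀.toUnder = e.toAlgHom.toUnder ≫ (Idx.cocone A B).ι.app i :=
    CommRingCat.mkUnder_ext fun a => (DFunLike.congr_fun he a).symm
  let x' : F.obj ((Idx.diagram A B).obj i) := F.map e.toAlgHom.toUnder x
  let y' : F.obj ((Idx.diagram A B).obj i) := F.map e.toAlgHom.toUnder y
  have h' : (F.mapCocone (Idx.cocone A B)).ι.app i x' = (F.mapCocone (Idx.cocone A B)).ι.app i y' := by
    rw [hu] at h
    exact ((FunctorToTypes.map_comp_apply F e.toAlgHom.toUnder ((Idx.cocone A B).ι.app i) x).symm.trans h).trans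
      (FunctorToTypes.map_comp_apply F e.toAlgHom.toUnder ((Idx.cocone A B).ι.app i) y)
  obtain ⟨j, f, f', hff⟩ := (Types.FilteredColimit.isColimit_eq_iff _ hc).1 h'
  let k := IsFiltered.coeq f f'
  let q := IsFiltered.coeqHom f f'
  refine ⟨k.alg, inferInstance, inferInstance, inferInstance, (f ≫ q).1.comp e.toAlgHom, k.hom, ?_, ?_⟩
  · rw [← AlgHom.comp_assoc, (f ≫ q).2, he]
  · have hm : ((f ≫ q).1.comp e.toAlgHom).toUnder = e.toAlgHom.toUnder ≫ (Idx.diagram A B).map (f ≫ q) :=
      CommRingCat.mkUnder_ext fun a => rfl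
    rw [hm]
    refine (FunctorToTypes.map_comp_apply F e.toAlgHom.toUnder ((Idx.diagram A B).map (f ≫ q)) x).trans
      (Eq.trans ?_ (FunctorToTypes.map_comp_apply F e.toAlgHom.toUnder ((Idx.diagram A B).map (f ≫ q)) y).symm)
    show (Idx.diagram A B ⋙ F).map (f ≫ q) x' = (Idx.diagram A B ⋙ F).map (f ≫ q) y'
    have hq : f ≫ q = f' ≫ q := IsFiltered.coeq_condition f f'
    conv_rhs => rw [hq]
    rw [FunctorToTypes.map_comp_apply, FunctorToTypes.map_comp_apply, hff]

end ApproxLib
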