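import Groth.Agent.ApproxLib.Stage

/-!
# Descending algebras étale over two finitely presented algebras
-/

set_option autoImplicit false

universe u

open TensorProduct

namespace ApproxLib

variable {A T : Type u} [CommRing A] [CommRing T] [Algebra A T]

/-- Change of stage. -/
noncomputable abbrev inclMap {F : Type u} [CommRing F] [Algebra A F] {S S' : Subalgebra A T} (h : S ≤ S') :
    ↥S ⊗[A] F →ₐ[A] ↥S' ⊗[A] F :=
  Algebra.TensorProduct.map (Subalgebra.inclusion h) (AlgHom.id A F)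

/-- The map from a stage to a model over `T`. -/
noncomputable abbrev stageLift {F E : Type u} [CommRing F] [Algebra A F] [CommRing E] [Algebra A E] [Algebra T E]
    [IsScalarTower A T E] (S : Subalgebra A T) (θ : F →ₐ[A] E) : ↥S ⊗[A] F →ₐ[A] E :=
  ((modelLift (T := T) θ).restrictScalars A).comp (Algebra.TensorProduct.map S.val (AlgHom.id A F))

theorem stageLift_tmul {F E : Type u} [CommRing F] [Algebra A F] [CommRing E] [Algebra A E] [Algebra T E]
    [IsScalarTower A T E] (S : Subalgebra A T) (θ : F →ₐ[A] E) (a : S) (y : F) :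
    stageLift S θ (a ⊗ₜ[A] y) = algebraMap T E a * θ y :=
  modelLift_tmul _ _ _

theorem stageLift_inclMap {F E : Type u} [CommRing F] [Algebra A F] [CommRing E] [Algebra A E] [Algebra T E]
    [IsScalarTower A T E] {S S' : Subalgebra A T} (h : S ≤ S') (θ : F →ₐ[A] E) (z : ↥S ⊗[A] F) :
    stageLift S' θ (inclMap h z) = stageLift S θ z := by
  induction z using TensorProduct.induction_on with
  | zero => simp
  | add x y hx hy => rw [map_add, map_add, map_add, hx, hy]
  | tmul a y => rw [inclMap, Algebra.TensorProduct.map_tmul, stageLift_tmul, stageLift_tmul]; rfl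

variable [IsNoetherianRing A]

/-- Elements with zero image in a model die at a finite stage. -/
theorem exists_kill_model {F E : Type u} [CommRing F] [Algebra A F] [CommRing E] [Algebra A E] [Algebra T E]
    [IsScalarTower A T E] (θ : F →ₐ[A] E) (hθ : Function.Bijective (modelLift (T := T) θ)) (S : Subalgebra A T)
    (hS : S.FG) (s : Finset (↥S ⊗[A] F)) (h : ∀ z ∈ s, stageLift S θ z = 0) :
    ∃ (S' : Subalgebra A T) (_ : S'.FG) (hle : S ≤ S'), ∀ z ∈ s, inclMap hle z = 0 :=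
  exists_kill_finset S hS s fun z hz => hθ.1 ((h z hz).trans (map_zero _).symm)

/-- Maps into models descend to finite stages. -/
theorem exists_hom_stage {F F' E : Type u} [CommRing F] [Algebra A F] [CommRing F'] [Algebra A F']
    [Algebra.FinitePresentation A F'] [CommRing E] [Algebra A E] [Algebra T E]
    [IsScalarTower A T E] (θ : F →ₐ[A] E) (hθ : Function.Bijective (modelLift (T := T) θ)) (χ : F' →ₐ[A] E)
    (S₀ : Subalgebra A T) (hS₀ : S₀.FG) :
    ∃ (S : Subalgebra A T) (_ : S.FG) (_ : S₀ ≤ S) (h : F' →ₐ[A] ↥S ⊗[A] F), ∀ x, stageLift S θ (h x) = χ x := by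
  classical
  obtain ⟨n, π, hπ, hker⟩ := Algebra.FinitePresentation.out (R := A) (A := F')
  obtain ⟨gen, hgen⟩ := hker
  choose w hw using fun k : Fin n => hθ.2 (χ (π (MvPolynomial.X k)))
  obtain ⟨S₁, hS₁, hz⟩ := exists_stage_finite (A := A) (T := T) w
  choose z hz using hz
  let S₂ := S₀ ⊔ S₁
  let ev : MvPolynomial (Fin n) A →ₐ[A] ↥S₂ ⊗[A] F :=
    MvPolynomial.aeval fun k => inclMap (le_sup_right : S₁ ≤ S₂) (z k)
  have hev : (stageLift S₂ θ).comp ev = χ.comp π := MvPolynomial.algHom_ext fun k => by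
    show stageLift S₂ θ (MvPolynomial.aeval _ (MvPolynomial.X k)) = χ (π (MvPolynomial.X k))
    rw [MvPolynomial.aeval_X, stageLift_inclMap]
    show modelLift θ (Algebra.TensorProduct.map S₁.val (AlgHom.id A F) (z k)) = _
    rw [hz, hw]
  obtain ⟨S, hS, hle, hkill⟩ := exists_kill_model θ hθ S₂ (hS₀.sup hS₁) (gen.image ev) fun y hy => by
    obtain ⟨g, hg, rfl⟩ := Finset.mem_image.1 hy
    rw [← AlgHom.comp_apply, hev, AlgHom.comp_apply,
      show π g = 0 from (hgen.le (Submodule.subset_span hg) :), map_zero]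
  let ev' : MvPolynomial (Fin n) A →ₐ[A] ↥S ⊗[A] F := (inclMap hle).comp ev
  have hz' : ∀ x, π x = 0 → ev' x = 0 := fun x hx => by
    refine (Ideal.span_le (I := RingHom.ker ev')).2 (fun g hg => ?_) (hgen.ge hx : x ∈ Submodule.span _ _)
    exact hkill _ (Finset.mem_image_of_mem _ hg)
  refine ⟨S, hS, le_sup_left.trans hle, AlgHom.liftOfSurjective π hπ ev' fun x hx => hz' x hx, fun x => ?_⟩
  obtain ⟨p, rfl⟩ := hπ x
  rw [← AlgHom.comp_apply _ π, AlgHom.liftOfSurjective_comp]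
  show stageLift S θ (inclMap hle (ev p)) = _
  rw [stageLift_inclMap]
  exact DFunLike.congr_fun hev p

omit [IsNoetherianRing A] in
/-- Extended maps commute with the change of stage. -/
theorem lift_inclMap {F F' : Type u} [CommRing F] [Algebra A F] [CommRing F'] [Algebra A F'] {S S' : Subalgebra A T}
    (hle : S ≤ S') (h : F' →ₐ[A] ↥S ⊗[A] F) (z : ↥S ⊗[A] F') :
    Algebra.TensorProduct.lift (Algebra.ofId S' (↥S' ⊗[A] F)) ((inclMap hle).comp h) (fun _ _ => Commute.all _ _)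
        (inclMap hle z) =
      inclMap hle (Algebra.TensorProduct.lift (Algebra.ofId S (↥S ⊗[A] F)) h (fun _ _ => Commute.all _ _) z) := by
  induction z using TensorProduct.induction_on with
  | zero => simp
  | add x y hx hy => simp only [map_add, hx, hy]
  | tmul a y =>
    rw [inclMap, Algebra.TensorProduct.map_tmul, Algebra.TensorProduct.lift_tmul,
      Algebra.TensorProduct.lift_tmul, map_mul]
    congr 1

omit [IsNoetherianRing A] in
theorem stageLift_lift {F F' E : Type u} [CommRing F] [Algebra A F] [CommRing F'] [Algebra A F'] [CommRing E]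
    [Algebra A E] [Algebra T E] [IsScalarTower A T E] (θ : F →ₐ[A] E) (θ' : F' →ₐ[A] E) (S : Subalgebra A T)
    (h : F' →ₐ[A] ↥S ⊗[A] F) (hh : ∀ x, stageLift S θ (h x) = θ' x) (z : ↥S ⊗[A] F') :
    stageLift S θ (Algebra.TensorProduct.lift (Algebra.ofId S (↥S ⊗[A] F)) h (fun _ _ => Commute.all _ _) z) =
      stageLift S θ' z := by
  induction z using TensorProduct.induction_on with
  | zero => simp
  | add x y hx hy => simp only [map_add, hx, hy]
  | tmul a y =>
    rw [Algebra.TensorProduct.lift_tmul, map_mul, hh, stageLift_tmul, Algebra.ofId_apply]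
    congr 1
    show stageLift S θ (a ⊗ₜ[A] (1 : F)) = _
    rw [stageLift_tmul, map_one, mul_one]

/-- Two models of an algebra are isomorphic at a finite stage. -/
theorem exists_equiv_stage {F F' E : Type u} [CommRing F] [Algebra A F] [Algebra.FinitePresentation A F]
    [CommRing F'] [Algebra A F'] [Algebra.FinitePresentation A F'] [CommRing E] [Algebra A E] [Algebra T E]
    [IsScalarTower A T E] (θ : F →ₐ[A] E) (hθ : Function.Bijective (modelLift (T := T) θ)) (θ' : F' →ₐ[A] E)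
    (hθ' : Function.Bijective (modelLift (T := T) θ')) :
    ∃ (S : Subalgebra A T) (_ : S.FG) (e : ↥S ⊗[A] F' ≃ₐ[S] ↥S ⊗[A] F),
      ∀ z, stageLift S θ (e z) = stageLift S θ' z := by
  classical
  obtain ⟨S₁, hS₁, -, h₁, hh₁⟩ := exists_hom_stage θ hθ θ' ⊥ Subalgebra.fg_bot
  obtain ⟨S₂, hS₂, hle₁, k₂, hk₂⟩ := exists_hom_stage θ' hθ' θ S₁ hS₁
  let h₂ : F' →ₐ[A] ↥S₂ ⊗[A] F := (inclMap hle₁).comp h₁
  have hh₂ : ∀ x, stageLift S₂ θ (h₂ x) = θ' x := fun x => (stageLift_inclMap hle₁ θ _).trans (hh₁ x)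
  let H₂ := Algebra.TensorProduct.lift (Algebra.ofId S₂ (↥S₂ ⊗[A] F)) h₂ fun _ _ => Commute.all _ _
  let K₂ := Algebra.TensorProduct.lift (Algebra.ofId S₂ (↥S₂ ⊗[A] F')) k₂ fun _ _ => Commute.all _ _
  obtain ⟨s, hs⟩ := (inferInstance : Algebra.FiniteType A F).out
  obtain ⟨s', hs'⟩ := (inferInstance : Algebra.FiniteType A F').out
  obtain ⟨S₃, hS₃, hle₂, hkill⟩ := exists_kill_model θ hθ S₂ hS₂
    (s.image fun x => H₂ (k₂ x) - (1 : S₂) ⊗ₜ[A] x) fun y hy => by
      obtain ⟨x, -, rfl⟩ := Finset.mem_image.1 hy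
      rw [map_sub, stageLift_lift θ θ' S₂ h₂ hh₂, hk₂, stageLift_tmul, OneMemClass.coe_one, map_one, one_mul, sub_self]
  let h₃ : F' →ₐ[A] ↥S₃ ⊗[A] F := (inclMap hle₂).comp h₂
  let k₃ : F →ₐ[A] ↥S₃ ⊗[A] F' := (inclMap hle₂).comp k₂
  have hh₃ : ∀ x, stageLift S₃ θ (h₃ x) = θ' x := fun x => (stageLift_inclMap hle₂ θ _).trans (hh₂ x)
  have hk₃ : ∀ x, stageLift S₃ θ' (k₃ x) = θ x := fun x => (stageLift_inclMap hle₂ θ' _).trans (hk₂ x)
  let K₃ := Algebra.TensorProduct.lift (Algebra.ofId S₃ (↥S₃ ⊗[A] F')) k₃ fun _ _ => Commute.all _ _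
  obtain ⟨S, hS, hle₃, hkill'⟩ := exists_kill_model θ' hθ' S₃ hS₃
    (s'.image fun x => K₃ (h₃ x) - (1 : S₃) ⊗ₜ[A] x) fun y hy => by
      obtain ⟨x, -, rfl⟩ := Finset.mem_image.1 hy
      rw [map_sub, stageLift_lift θ' θ S₃ k₃ hk₃, hh₃, stageLift_tmul, OneMemClass.coe_one, map_one, one_mul, sub_self]
  let h : F' →ₐ[A] ↥S ⊗[A] F := (inclMap hle₃).comp h₃
  let k : F →ₐ[A] ↥S ⊗[A] F' := (inclMap hle₃).comp k₃
  let H := Algebra.TensorProduct.lift (Algebra.ofId S (↥S ⊗[A] F)) h fun _ _ => Commute.all _ _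
  let K := Algebra.TensorProduct.lift (Algebra.ofId S (↥S ⊗[A] F')) k fun _ _ => Commute.all _ _
  have e1 : ∀ x ∈ s, H (K ((1 : S) ⊗ₜ[A] x)) = (1 : S) ⊗ₜ[A] x := fun x hx => by
    have h1 : K ((1 : S) ⊗ₜ[A] x) = k x := by
      simp only [K, Algebra.TensorProduct.lift_tmul, map_one, one_mul]
    rw [h1]
    show H (inclMap hle₃ (inclMap hle₂ (k₂ x))) = _
    rw [lift_inclMap hle₃ h₃, lift_inclMap hle₂ h₂]
    have h2 := hkill _ (Finset.mem_image_of_mem (fun x => H₂ (k₂ x) - (1 : S₂) ⊗ₜ[A] x) hx)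
    rw [map_sub, sub_eq_zero] at h2
    rw [h2]
    rfl
  have e2 : ∀ x ∈ s', K (H ((1 : S) ⊗ₜ[A] x)) = (1 : S) ⊗ₜ[A] x := fun x hx => by
    have h1 : H ((1 : S) ⊗ₜ[A] x) = h x := by
      simp only [H, Algebra.TensorProduct.lift_tmul, map_one, one_mul]
    rw [h1]
    show K (inclMap hle₃ (h₃ x)) = _
    rw [lift_inclMap hle₃ k₃]
    have h2 := hkill' _ (Finset.mem_image_of_mem (fun x => K₃ (h₃ x) - (1 : S₃) ⊗ₜ[A] x) hx)
    rw [map_sub, sub_eq_zero] at h2
    rw [h2]
    rfl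
  have f1 : H.comp K = AlgHom.id S _ := Algebra.TensorProduct.ext (Subsingleton.elim _ _)
    (AlgHom.ext_of_adjoin_eq_top hs e1)
  have f2 : K.comp H = AlgHom.id S _ := Algebra.TensorProduct.ext (Subsingleton.elim _ _)
    (AlgHom.ext_of_adjoin_eq_top hs' e2)
  refine ⟨S, hS, AlgEquiv.ofAlgHom H K f1 f2, fun z => ?_⟩
  exact stageLift_lift θ θ' S h
    (fun x => ((stageLift_inclMap hle₃ θ _).trans (hh₃ x))) z

/-- Étale algebras over a base change have models over finite stages. -/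
theorem exists_etale_model {M E : Type u} [CommRing M] [Algebra A M] [Algebra.FinitePresentation A M] [CommRing E]
    [Algebra A E] [Algebra T E] [IsScalarTower A T E] (u : T ⊗[A] M →ₐ[T] E) (hu : u.toRingHom.Etale) :
    ∃ (S : Subalgebra A T) (_ : S.FG) (F : Type u) (_ : CommRing F) (_ : Algebra A F) (_ : Algebra ↥S F)
      (_ : IsScalarTower A ↥S F) (θ : F →ₐ[S] E) (w : M →ₐ[A] F),
      Function.Bijective (modelLift (T := T) θ) ∧
      (Algebra.TensorProduct.lift (Algebra.ofId ↥S F) w fun _ _ => Commute.all _ _).toRingHom.Etale ∧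
      ∀ m, θ (w m) = u ((1 : T) ⊗ₜ[A] m) := by
  letI : Algebra (T ⊗[A] M) E := u.toRingHom.toAlgebra
  haveI : IsScalarTower A (T ⊗[A] M) E := IsScalarTower.of_algebraMap_eq fun a => by
    show _ = u (algebraMap A (T ⊗[A] M) a)
    rw [IsScalarTower.algebraMap_apply A T (T ⊗[A] M), u.commutes, ← IsScalarTower.algebraMap_apply]
  haveI : Algebra.Etale (T ⊗[A] M) E := hu
  obtain ⟨B₀, E₀, _, _, hB₀, hE₀, ⟨eqv⟩⟩ :=
    Algebra.Etale.exists_subalgebra_fg (R := A) (A := T ⊗[A] M) (B := E)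
  haveI : Algebra.FiniteType A ↥B₀ := (Subalgebra.fg_iff_finiteType B₀).mp hB₀
  haveI : Algebra.FinitePresentation A ↥B₀ := Algebra.FinitePresentation.of_finiteType.1 inferInstance
  let inr : M →ₐ[A] T ⊗[A] M := Algebra.TensorProduct.includeRight
  have hbij : Function.Bijective (modelLift (T := T) inr) := by
    have : modelLift (T := T) inr = AlgHom.id T _ := Algebra.TensorProduct.ext (Subsingleton.elim _ _) (AlgHom.ext fun m => by
      show modelLift (T := T) inr ((1 : T) ⊗ₜ[A] m) = (1 : T) ⊗ₜ[A] m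
      rw [modelLift_tmul, map_one, one_mul]
      rfl)
    rw [this]
    exact Function.bijective_id
  obtain ⟨S, hS, -, ι, hι⟩ := exists_hom_stage inr hbij B₀.val ⊥ Subalgebra.fg_bot
  let N := ↥S ⊗[A] M
  letI : Algebra ↥B₀ N := ι.toRingHom.toAlgebra
  haveI : IsScalarTower A ↥B₀ N := IsScalarTower.of_algebraMap_eq fun a => (ι.commutes a).symm
  let F := N ⊗[↥B₀] E₀
  letI : CommRing F := inferInstance
  letI : Algebra ↥S F := inferInstance
  let θ₁ : N →ₐ[↥B₀] E :=
    { u.toRingHom.comp (stageLift S inr).toRingHom with commutes' := fun b => congrArg u (hι b) }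
  let θ₂ : E₀ →ₐ[↥B₀] E := (eqv.symm.toAlgHom.restrictScalars ↥B₀).comp Algebra.TensorProduct.includeRight
  let θ₀ : F →ₐ[↥B₀] E := Algebra.TensorProduct.lift θ₁ θ₂ fun _ _ => Commute.all _ _
  have hθ₀ : ∀ n, θ₀ (n ⊗ₜ[↥B₀] (1 : E₀)) = θ₁ n := fun n => by
    exact (Algebra.TensorProduct.lift_tmul θ₁ θ₂ (fun _ _ => Commute.all _ _) n 1).trans (by rw [map_one, mul_one])
  let θ : F →ₐ[↥S] E :=
    { θ₀.toRingHom with
      commutes' := fun a => by
        show θ₀ ((algebraMap ↥S N a) ⊗ₜ[↥B₀] (1 : E₀)) = _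
        rw [hθ₀]
        show u (stageLift S inr (a ⊗ₜ[A] (1 : M))) = algebraMap T E (a : T)
        rw [stageLift_tmul, map_one, mul_one, u.commutes] }
  let w : M →ₐ[A] F :=
    { (Algebra.TensorProduct.includeLeftRingHom : N →+* F).comp (Algebra.TensorProduct.includeRight : M →ₐ[A] N).toRingHom with
      commutes' := fun a => by
        show ((Algebra.TensorProduct.includeRight : M →ₐ[A] N) (algebraMap A M a)) ⊗ₜ[↥B₀] (1 : E₀) = _
        rw [AlgHom.commutes]
        rfl }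
  have hlift : ∀ z, Algebra.TensorProduct.lift (Algebra.ofId ↥S F) w (fun _ _ => mul_comm (G := F) _ _) z =
      z ⊗ₜ[↥B₀] (1 : E₀) := by
    intro z
    induction z using TensorProduct.induction_on with
    | zero => rw [map_zero, TensorProduct.zero_tmul]
    | add x y hx hy => rw [map_add, hx, hy, TensorProduct.add_tmul]
    | tmul a m =>
      rw [Algebra.TensorProduct.lift_tmul]
      show ((a ⊗ₜ[A] (1 : M)) ⊗ₜ[↥B₀] (1 : E₀)) * (((1 : S) ⊗ₜ[A] m) ⊗ₜ[↥B₀] (1 : E₀)) = _
      rw [Algebra.TensorProduct.tmul_mul_tmul, mul_one, Algebra.TensorProduct.tmul_mul_tmul, mul_one, one_mul]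
  refine ⟨S, hS, F, inferInstance, inferInstance, inferInstance, inferInstance,
    θ, w, ?_, ?_, fun m => ?_⟩
  · -- the inverse
    let Φ : T ⊗[↥S] F →ₐ[T] E :=
      modelLift (A := ↥S) (T := T) (F := F) (E := E) θ
    let inv₁ : T ⊗[A] M →ₐ[T] T ⊗[↥S] F :=
      Algebra.TensorProduct.lift (Algebra.ofId T _)
        (((Algebra.TensorProduct.includeRight : F →ₐ[↥S] T ⊗[↥S] F).restrictScalars A).comp w) fun _ _ => Commute.all _ _
    have hinv₁t : ∀ (t : T) (m : M), inv₁ (t ⊗ₜ[A] m) = algebraMap T (T ⊗[↥S] F) t * ((1 : T) ⊗ₜ[↥S] w m) :=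
      fun t m => Algebra.TensorProduct.lift_tmul _ _ _ t m
    have hinv₁ : ∀ z : N, inv₁ (stageLift S inr z) = (1 : T) ⊗ₜ[↥S] (z ⊗ₜ[↥B₀] (1 : E₀)) := by
      intro z
      induction z using TensorProduct.induction_on with
      | zero => simp
      | add x y hx hy => rw [map_add, map_add, hx, hy, TensorProduct.add_tmul, TensorProduct.tmul_add]
      | tmul a m =>
        rw [stageLift_tmul, map_mul, inv₁.commutes, ← hlift]
        show algebraMap T (T ⊗[↥S] F) (a : T) * inv₁ ((1 : T) ⊗ₜ[A] m) = _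
        rw [hinv₁t, map_one, one_mul, Algebra.TensorProduct.lift_tmul, Algebra.ofId_apply,
          ← Algebra.smul_def, ← Algebra.smul_def, TensorProduct.smul_tmul', ← TensorProduct.smul_tmul,
          smul_eq_mul, mul_one, Algebra.smul_def (A := T), mul_one]
        rfl
    letI : Algebra (T ⊗[A] M) (T ⊗[↥S] F) := inv₁.toRingHom.toAlgebra
    let inv₂ : E₀ →ₐ[↥B₀] T ⊗[↥S] F :=
      { (Algebra.TensorProduct.includeRight : F →ₐ[↥S] T ⊗[↥S] F).toRingHom.comp
          (Algebra.TensorProduct.includeRight : E₀ →ₐ[↥B₀] F).toRingHom with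
        commutes' := fun b => by
          show (1 : T) ⊗ₜ[↥S] (Algebra.TensorProduct.includeRight : E₀ →ₐ[↥B₀] F) (algebraMap ↥B₀ E₀ b) =
            inv₁ (b : T ⊗[A] M)
          rw [AlgHom.commutes]
          exact (hinv₁ (ι b)).symm.trans (congrArg inv₁ (hι b)) }
    let inv : (T ⊗[A] M) ⊗[↥B₀] E₀ →ₐ[T ⊗[A] M] T ⊗[↥S] F :=
      Algebra.TensorProduct.lift (Algebra.ofId _ _) inv₂ fun _ _ => Commute.all _ _
    have hinvt : ∀ (y : T ⊗[A] M) (e₀ : E₀),
        inv (y ⊗ₜ[↥B₀] e₀) = inv₁ y * ((1 : T) ⊗ₜ[↥S] ((1 : N) ⊗ₜ[↥B₀] e₀)) :=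
      fun y e₀ => Algebra.TensorProduct.lift_tmul _ _ _ y e₀
    have hθ₀t : ∀ (n : N) (e₀ : E₀), θ₀ (n ⊗ₜ[↥B₀] e₀) = θ₁ n * θ₂ e₀ :=
      fun n e₀ => Algebra.TensorProduct.lift_tmul _ _ _ n e₀
    have hΦ : ∀ (t : T) (y : F), Φ (t ⊗ₜ[↥S] y) = algebraMap T E t * θ₀ y := fun t y => modelLift_tmul _ _ _
    have hΦ1 : ∀ y : T ⊗[A] M, Φ (inv₁ y) = u y := by
      intro y
      induction y using TensorProduct.induction_on with
      | zero => simp
      | add x y hx hy => simp only [map_add, hx, hy]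
      | tmul t m =>
        rw [hinv₁t, map_mul, Φ.commutes, hΦ, map_one, one_mul, show θ₀ (w m) = θ₁ ((1 : S) ⊗ₜ[A] m) from hθ₀ _]
        show algebraMap T E t * u (stageLift S inr ((1 : S) ⊗ₜ[A] m)) = _
        rw [stageLift_tmul, OneMemClass.coe_one, map_one, one_mul, ← u.commutes, ← map_mul]
        show u ((t ⊗ₜ[A] (1 : M)) * ((1 : T) ⊗ₜ[A] m)) = _
        rw [Algebra.TensorProduct.tmul_mul_tmul, mul_one, one_mul]
    have h2 : ∀ z, inv (eqv (Φ z)) = z := by
      intro z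
      induction z using TensorProduct.induction_on with
      | zero => simp
      | add x y hx hy => simp only [map_add, hx, hy]
      | tmul t y =>
        induction y using TensorProduct.induction_on with
        | zero => simp
        | add x y hx hy => simp only [TensorProduct.tmul_add, map_add, hx, hy]
        | tmul n e₀ =>
          have hn : eqv (θ₁ n) = (stageLift S inr n) ⊗ₜ[↥B₀] (1 : E₀) := by
            show eqv (algebraMap (T ⊗[A] M) E (stageLift S inr n)) = _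
            rw [eqv.commutes]; rfl
          have ht : eqv (algebraMap T E t) = (t ⊗ₜ[A] (1 : M)) ⊗ₜ[↥B₀] (1 : E₀) := by
            rw [← u.commutes]
            show eqv (algebraMap (T ⊗[A] M) E _) = _
            rw [eqv.commutes]; rfl
          have he : eqv (θ₂ e₀) = (1 : T ⊗[A] M) ⊗ₜ[↥B₀] e₀ := eqv.apply_symm_apply _
          have hone : (1 : T) ⊗ₜ[↥S] ((1 : N) ⊗ₜ[↥B₀] (1 : E₀)) = (1 : T ⊗[↥S] F) := rfl
          rw [hΦ, hθ₀t, map_mul, map_mul, map_mul, hn, ht, he, map_mul, hinvt, hinvt, hinvt, map_one, one_mul,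
            hone, mul_one, mul_one, show (t ⊗ₜ[A] (1 : M)) = algebraMap T (T ⊗[A] M) t from rfl, inv₁.commutes,
            hinv₁, Algebra.TensorProduct.tmul_mul_tmul, mul_one, ← Algebra.smul_def, TensorProduct.smul_tmul',
            smul_eq_mul, mul_one]
          congr 1
          show (n ⊗ₜ[↥B₀] (1 : E₀)) * ((1 : N) ⊗ₜ[↥B₀] e₀) = _
          rw [Algebra.TensorProduct.tmul_mul_tmul, mul_one, one_mul]
    have h1 : ∀ x, Φ (inv (eqv x)) = x := by
      intro x
      conv_rhs => rw [← eqv.symm_apply_apply x]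
      generalize eqv x = z
      induction z using TensorProduct.induction_on with
      | zero => simp
      | add x y hx hy => simp only [map_add, hx, hy]
      | tmul y e₀ =>
        rw [hinvt, map_mul, hΦ1, hΦ, hθ₀t, map_one, one_mul, map_one, one_mul]
        show u y * eqv.symm ((1 : T ⊗[A] M) ⊗ₜ[↥B₀] e₀) = _
        rw [show y ⊗ₜ[↥B₀] e₀ = y • ((1 : T ⊗[A] M) ⊗ₜ[↥B₀] e₀) by
          rw [TensorProduct.smul_tmul', smul_eq_mul, mul_one], map_smul, Algebra.smul_def]
        rfl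
    exact ⟨fun a b h => by rw [← h2 a, ← h2 b]; exact congrArg (fun z => inv (eqv z)) h,
      fun x => ⟨inv (eqv x), h1 x⟩⟩
  · have : (Algebra.TensorProduct.lift (Algebra.ofId ↥S F) w fun _ _ => mul_comm (G := F) _ _).toRingHom =
        algebraMap N F := RingHom.ext fun z => hlift z
    rw [this]
    exact RingHom.etale_algebraMap.2 inferInstance
  · show θ₀ (((1 : S) ⊗ₜ[A] m) ⊗ₜ[↥B₀] (1 : E₀)) = _
    rw [hθ₀]
    show u (stageLift S inr ((1 : S) ⊗ₜ[A] m)) = _
    rw [stageLift_tmul, OneMemClass.coe_one, map_one, one_mul]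
    rfl

end ApproxLib
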