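import Groth.Agent.TransLib.BundleStd
import Groth.Agent.HenselLib.Basic
import Mathlib

/-!
# Lifting smooth points to étale neighbourhoods of a closed subscheme
-/

set_option autoImplicit false

universe u

open TensorProduct

namespace ApproxLib

/-- A surjection modulo an ideal is a surjection modulo all its powers. -/
theorem exists_sub_mem_pow {C C' : Type u} [CommRing C] [CommRing C'] [Algebra C C'] (J : Ideal C)
    (h : ∀ x : C', ∃ c : C, x - algebraMap C C' c ∈ J.map (algebraMap C C')) (n : ℕ) :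
    ∀ x : C', ∃ c : C, x - algebraMap C C' c ∈ J.map (algebraMap C C') ^ n := by
  induction n with
  | zero => exact fun x => ⟨0, by simp⟩
  | succ n ih =>
    intro x
    obtain ⟨c, hc⟩ := ih x
    have key : ∀ z ∈ J.map (algebraMap C C') ^ n, ∃ d : C, z - algebraMap C C' d ∈ J.map (algebraMap C C') ^ (n + 1) := by
      intro z hz
      rw [← Ideal.map_pow] at hz
      induction hz using Submodule.span_induction with
      | mem y hy =>
        obtain ⟨j, -, rfl⟩ := hy
        exact ⟨j, by rw [sub_self]; exact zero_mem _⟩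
      | zero => exact ⟨0, by simp⟩
      | add y w _ _ hy hw =>
        obtain ⟨d, hd⟩ := hy
        obtain ⟨e, he⟩ := hw
        refine ⟨d + e, ?_⟩
        rw [map_add, add_sub_add_comm]
        exact add_mem hd he
      | smul a y hy' hd =>
        obtain ⟨d, hd⟩ := hd
        obtain ⟨e, he⟩ := h a
        refine ⟨e * d, ?_⟩
        have h1 : a • y - algebraMap C C' (e * d) = (a - algebraMap C C' e) * y + algebraMap C C' e * (y - algebraMap C C' d) := by
          rw [map_mul, smul_eq_mul]; ring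
        rw [h1]
        refine add_mem ?_ (Ideal.mul_mem_left _ _ hd)
        rw [pow_succ']
        refine Ideal.mul_mem_mul he ?_
        rw [← Ideal.map_pow]
        exact hy'
    obtain ⟨d, hd⟩ := key _ hc
    exact ⟨c + d, by rwa [map_add, ← sub_sub]⟩

/-- Smooth points over a thickening of a closed subscheme extend to étale neighbourhoods of it. -/
theorem exists_etale_lift {C S : Type u} [CommRing C] [CommRing S] [Algebra C S] [Algebra.Smooth C S]
    (J : Ideal C) {N : ℕ} (hN : 0 < N) (σ : S →ₐ[C] C ⧸ J ^ N) :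
    ∃ (C' : Type u) (_ : CommRing C') (_ : Algebra C C'), Algebra.Etale C C' ∧
      (∀ x : C', ∃ c : C, x - algebraMap C C' c ∈ J.map (algebraMap C C')) ∧
      (∀ c : C, algebraMap C C' c ∈ J.map (algebraMap C C') → c ∈ J) ∧
      ∃ ρ : S →ₐ[C] C', ∀ (s : S) (c : C), Ideal.Quotient.mk (J ^ N) c = σ s →
        ρ s - algebraMap C C' c ∈ J.map (algebraMap C C') ^ N := by
  classical
  obtain ⟨S', _, _, _, _, -, ⟨ret⟩, hstd⟩ := TransLib.exists_retract_standardSmooth (R := C) (A := S)
  let σ' : S' →ₐ[C] C ⧸ J ^ N := σ.comp (ret.restrictScalars C)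
  obtain ⟨d, g₀, hg₀, het⟩ := RingHom.IsStandardSmooth.exists_etale_mvPolynomial
    (RingHom.isStandardSmooth_algebraMap.2 hstd : (algebraMap C S').IsStandardSmooth)
  letI : Algebra (MvPolynomial (Fin d) C) S' := g₀.toAlgebra
  have : IsScalarTower C (MvPolynomial (Fin d) C) S' :=
    IsScalarTower.of_algebraMap_eq fun r => (DFunLike.congr_fun hg₀ r).symm
  have : Algebra.Etale (MvPolynomial (Fin d) C) S' := het
  choose v hv using fun j : Fin d => Ideal.Quotient.mk_surjective (I := J ^ N) (σ' (g₀ (MvPolynomial.X j)))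
  letI : Algebra (MvPolynomial (Fin d) C) C := (MvPolynomial.aeval v).toRingHom.toAlgebra
  have : IsScalarTower C (MvPolynomial (Fin d) C) C :=
    IsScalarTower.of_algebraMap_eq fun x => ((MvPolynomial.aeval v).commutes x).symm
  let E := C ⊗[MvPolynomial (Fin d) C] S'
  have hagree : (σ'.comp (IsScalarTower.toAlgHom C (MvPolynomial (Fin d) C) S')) =
      (Ideal.Quotient.mkₐ C (J ^ N)).comp (MvPolynomial.aeval v) := by
    refine MvPolynomial.algHom_ext fun j => ?_
    show σ' (g₀ (MvPolynomial.X j)) = Ideal.Quotient.mk (J ^ N) (MvPolynomial.aeval v (MvPolynomial.X j))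
    rw [MvPolynomial.aeval_X, hv]
  let f₂ : S' →ₐ[MvPolynomial (Fin d) C] C ⧸ J ^ N :=
    { σ'.toRingHom with commutes' := fun p => DFunLike.congr_fun hagree p }
  let σE : E →ₐ[C] C ⧸ J ^ N :=
    Algebra.TensorProduct.lift (Algebra.ofId C (C ⧸ J ^ N)) f₂ fun _ _ => Commute.all _ _
  let τ : E →ₐ[C] C ⧸ J := (Ideal.Quotient.factorₐ C (Ideal.pow_le_self hN.ne')).comp σE
  obtain ⟨δ, hδ, hδK⟩ := HenselLib.exists_separating (I := J) τ
  let C' := Localization.Away δ
  let JC := J.map (algebraMap C C')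
  have hJE : ∀ y ∈ J.map (algebraMap C E), algebraMap E C' y ∈ JC := fun y hy => by
    show algebraMap E C' y ∈ J.map (algebraMap C C')
    rw [IsScalarTower.algebraMap_eq C E C', ← Ideal.map_map]
    exact Ideal.mem_map_of_mem _ hy
  have hker : ∀ y, τ y = 0 → algebraMap E C' y ∈ JC := fun y hy => by
    have h1 := hJE _ (hδK y hy)
    rw [map_mul] at h1
    exact (Ideal.mul_unit_mem_iff_mem _ (IsLocalization.Away.algebraMap_isUnit δ)).1 h1
  have hsurjE : ∀ y : E, ∃ c : C, algebraMap E C' y - algebraMap C C' c ∈ JC := fun y => by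
    obtain ⟨c, hc⟩ := Ideal.Quotient.mk_surjective (τ y)
    refine ⟨c, ?_⟩
    rw [IsScalarTower.algebraMap_apply C E C', ← map_sub]
    exact hker _ (by rw [map_sub, AlgHom.commutes, ← hc, Ideal.Quotient.algebraMap_eq, sub_self])
  have hone : algebraMap E C' δ - 1 ∈ JC := by
    rw [← map_one (algebraMap E C'), ← map_sub]
    exact hker _ (by rw [map_sub, hδ, map_one, sub_self])
  have hpow : ∀ k : ℕ, algebraMap E C' (δ ^ k) - 1 ∈ JC := fun k => by
    rw [map_pow]
    have h := sub_dvd_pow_sub_pow (algebraMap E C' δ) 1 k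
    rw [one_pow] at h
    exact Ideal.mem_of_dvd _ h hone
  have hsurj : ∀ x : C', ∃ c : C, x - algebraMap C C' c ∈ JC := fun x => by
    obtain ⟨y, ⟨_, k, rfl⟩, rfl⟩ := IsLocalization.exists_mk'_eq (Submonoid.powers δ) x
    obtain ⟨c, hc⟩ := hsurjE y
    refine ⟨c, ?_⟩
    let z : C' := IsLocalization.mk' C' y (⟨δ ^ k, k, rfl⟩ : Submonoid.powers δ)
    have hz : z * algebraMap E C' (δ ^ k) = algebraMap E C' y := IsLocalization.mk'_spec _ _ _
    have h2 : z - algebraMap C C' c =
        (algebraMap E C' y - algebraMap C C' c) - z * (algebraMap E C' (δ ^ k) - 1) := by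
      rw [mul_sub, hz, mul_one]; ring
    show z - algebraMap C C' c ∈ JC
    rw [h2]
    exact sub_mem hc (Ideal.mul_mem_left _ _ (hpow k))
  let σ₁ : C' →ₐ[C] C ⧸ J ^ N := IsLocalization.liftAlgHom (M := Submonoid.powers δ) (S := C') (f := σE) (by
    rintro ⟨_, k, rfl⟩
    show IsUnit (σE (δ ^ k))
    rw [map_pow]
    refine IsUnit.pow _ ?_
    obtain ⟨c, hc⟩ := Ideal.Quotient.mk_surjective (σE δ)
    have h1 : Ideal.Quotient.mk J c = 1 := by
      rw [← hδ]
      show _ = Ideal.Quotient.factor (Ideal.pow_le_self hN.ne') (σE δ)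
      rw [← hc, Ideal.Quotient.factor_mk]
    rw [← hc]
    have h2 : IsNilpotent (Ideal.Quotient.mk (J ^ N) (c - 1)) := ⟨N, by
      rw [← map_pow, Ideal.Quotient.eq_zero_iff_mem]
      refine Ideal.pow_mem_pow ?_ N
      rwa [← map_one (Ideal.Quotient.mk J), Ideal.Quotient.eq] at h1⟩
    rw [map_sub, map_one] at h2
    have h3 := IsNilpotent.isUnit_one_add h2
    rwa [add_sub_cancel] at h3)
  refine ⟨C', inferInstance, inferInstance, Algebra.Etale.comp C E C', hsurj, fun c hc => ?_,
    (IsScalarTower.toAlgHom C E C').comp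
      (((Algebra.TensorProduct.includeRight (R := MvPolynomial (Fin d) C) (A := C) (B := S')).restrictScalars C).comp
        (IsScalarTower.toAlgHom C S S')), fun s c hc => ?_⟩
  · have h1 : Ideal.Quotient.factor (Ideal.pow_le_self hN.ne') (σ₁ (algebraMap C C' c)) = 0 := by
      refine (Ideal.map_le_iff_le_comap (K := RingHom.ker ((Ideal.Quotient.factor (Ideal.pow_le_self hN.ne')).comp
        σ₁.toRingHom))).2 (fun z hz => ?_) hc
      show Ideal.Quotient.factor (Ideal.pow_le_self hN.ne') (σ₁ (algebraMap C C' z)) = 0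
      rw [AlgHom.commutes, Ideal.Quotient.algebraMap_eq, Ideal.Quotient.factor_mk, Ideal.Quotient.eq_zero_iff_mem]
      exact hz
    rwa [AlgHom.commutes, Ideal.Quotient.algebraMap_eq, Ideal.Quotient.factor_mk, Ideal.Quotient.eq_zero_iff_mem] at h1
  · let w : E := (1 : C) ⊗ₜ[MvPolynomial (Fin d) C] algebraMap S S' s
    have hρ : σ₁ (algebraMap E C' w) = σ s := by
      show IsLocalization.lift _ (algebraMap E C' w) = _
      rw [IsLocalization.lift_eq]
      show Algebra.TensorProduct.lift (Algebra.ofId C (C ⧸ J ^ N)) f₂ (fun _ _ => Commute.all _ _) w = _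
      rw [Algebra.TensorProduct.lift_tmul, map_one, one_mul]
      show σ (ret (algebraMap S S' s)) = σ s
      rw [ret.commutes]
      rfl
    show algebraMap E C' w - algebraMap C C' c ∈ JC ^ N
    obtain ⟨c', hc'⟩ := exists_sub_mem_pow J hsurj N (algebraMap E C' w)
    have h2 : σ₁ (algebraMap E C' w) - σ₁ (algebraMap C C' c') = 0 := by
      rw [← map_sub]
      refine (Ideal.map_le_iff_le_comap (K := RingHom.ker σ₁.toRingHom)).2 (fun z hz => ?_)
        ((Ideal.map_pow _ J N).ge hc')
      show σ₁ (algebraMap C C' z) = 0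
      rw [AlgHom.commutes, Ideal.Quotient.algebraMap_eq, Ideal.Quotient.eq_zero_iff_mem]
      exact hz
    rw [hρ, ← hc, AlgHom.commutes, Ideal.Quotient.algebraMap_eq, ← map_sub, Ideal.Quotient.eq_zero_iff_mem] at h2
    rw [← sub_sub_sub_cancel_right _ _ (algebraMap C C' c'), ← map_sub (algebraMap C C') c c']
    refine sub_mem hc' ?_
    rw [← Ideal.map_pow]
    exact Ideal.mem_map_of_mem _ h2

end ApproxLib
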