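import Groth.Agent.ApproxLib.ColimFP

/-!
# Approximation of elements of functors preserving filtered colimits
-/

set_option autoImplicit false

universe u

open CategoryTheory CategoryTheory.Limits

namespace ApproxLib

/-- Morphisms to an algebra under `A` from finitely presented algebras approximate elements over the completion. -/
theorem exists_lift_of_approx {A : Type u} [CommRing A] (I : Ideal A) (c : ℕ)
    (happ : ∀ (B : Type u) [CommRing B] [Algebra A B] [Algebra.FinitePresentation A B] (f : B →ₐ[A] AdicCompletion I A),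
      ∃ g : B →ₐ[A] A, ∀ b, Ideal.Quotient.mk (I ^ c) (g b) = AdicCompletion.evalₐ I c (f b))
    (F : Under (CommRingCat.of A) ⥤ Type u)
    (hF : ∀ (J : Type u) [SmallCategory J] [IsFiltered J], PreservesColimitsOfShape J F)
    (π : Under.mk (CommRingCat.ofHom (algebraMap A (AdicCompletion I A))) ⟶
      Under.mk (CommRingCat.ofHom (algebraMap A (A ⧸ I ^ c))))
    (hπ : π.right = CommRingCat.ofHom
      (AdicCompletion.evalₐ I c : AdicCompletion I A →ₐ[A] A ⧸ I ^ c).toRingHom)
    (ρ : Under.mk (𝟙 (CommRingCat.of A)) ⟶ Under.mk (CommRingCat.ofHom (algebraMap A (A ⧸ I ^ c))))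
    (ξ : F.obj (Under.mk (CommRingCat.ofHom (algebraMap A (AdicCompletion I A))))) :
    ∃ η : F.obj (Under.mk (𝟙 (CommRingCat.of A))), F.map ρ η = F.map π ξ := by
  obtain ⟨D, _, _, _, f, x, hx⟩ := exists_fp_lift F hF (AdicCompletion I A) ξ
  obtain ⟨g, hg⟩ := happ D f
  let g' : CommRingCat.mkUnder (CommRingCat.of A) D ⟶ Under.mk (𝟙 (CommRingCat.of A)) :=
    Under.homMk (CommRingCat.ofHom g.toRingHom) (by ext a; exact g.commutes a)
  have hcomp : g' ≫ ρ = (f.toUnder : CommRingCat.mkUnder (CommRingCat.of A) D ⟶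
      Under.mk (CommRingCat.ofHom (algebraMap A (AdicCompletion I A)))) ≫ π := by
    apply Under.UnderMorphism.ext
    ext b
    have hρ : ∀ a : A, ρ.right.hom a = Ideal.Quotient.mk (I ^ c) a := fun a => by
      have h := RingHom.congr_fun (congr_arg CommRingCat.Hom.hom (Under.w ρ)) a
      exact h
    show ρ.right.hom (g b) = π.right.hom (f b)
    rw [hρ, hπ]
    exact hg b
  refine ⟨F.map g' x, ?_⟩
  rw [← hx]
  exact ((FunctorToTypes.map_comp_apply F g' ρ x).symm.trans (congrArg (fun m => F.map m x) hcomp)).trans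
    (FunctorToTypes.map_comp_apply F f.toUnder π x)

end ApproxLib
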