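import Groth.Agent.ApproxLib.EtaleHom
import Groth.Agent.ApproxLib.EtaleLift
import Groth.Agent.TransLib.IndSmoothLoc
import Mathlib

/-!
# Approximating maps into completions of local rings on étale neighbourhoods
-/

set_option autoImplicit false

universe u

open IsLocalRing

namespace ApproxLib

/-- A ring map from a localization at a prime to the localization of an algebra at a prime above it,
compatible with the base, sends non-units to non-units. -/
theorem map_mem_maximalIdeal {B B' L L' : Type u} [CommRing B] [CommRing B'] [Algebra B B'] [CommRing L]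
    [CommRing L'] [Algebra B L] [Algebra B' L'] [IsLocalRing L] [IsLocalRing L'] (P : Ideal B) [P.IsPrime]
    [IsLocalization.AtPrime L P] (P' : Ideal B') [P'.IsPrime] [IsLocalization.AtPrime L' P']
    (hcomap : P'.comap (algebraMap B B') = P) (κ : L →+* L')
    (hκ : κ.comp (algebraMap B L) = (algebraMap B' L').comp (algebraMap B B'))
    (x : L) (hx : x ∈ maximalIdeal L) : κ x ∈ maximalIdeal L' := by
  obtain ⟨b, s, rfl⟩ := IsLocalization.exists_mk'_eq P.primeCompl x
  have hb : b ∈ P := (IsLocalization.AtPrime.to_map_mem_maximal_iff L P b).1 (by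
    rw [← IsLocalization.mk'_spec L b s]
    exact Ideal.mul_mem_right _ _ hx)
  have h1 : κ (IsLocalization.mk' L b s) * κ (algebraMap B L (s : B)) ∈ maximalIdeal L' := by
    rw [← map_mul, IsLocalization.mk'_spec, ← RingHom.comp_apply κ, hκ]
    exact (IsLocalization.AtPrime.to_map_mem_maximal_iff L' P' _).2 (hcomap.ge hb : b ∈ P'.comap (algebraMap B B'))
  exact (Ideal.mul_unit_mem_iff_mem _ ((IsLocalization.map_units L s).map κ)).1 h1

/-- The maximal ideal of an unramified residually trivial localization is generated by the one below. -/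
theorem map_maximalIdeal_eq {B B' L L' : Type u} [CommRing B] [CommRing B'] [Algebra B B'] [CommRing L]
    [CommRing L'] [Algebra B L] [Algebra B' L'] [IsLocalRing L] [IsLocalRing L'] [Algebra.Etale B B']
    (P : Ideal B) [P.IsPrime] [IsLocalization.AtPrime L P] (P' : Ideal B') [P'.IsPrime]
    [IsLocalization.AtPrime L' P'] (hcomap : P'.comap (algebraMap B B') = P) (κ : L →+* L')
    (hκ : κ.comp (algebraMap B L) = (algebraMap B' L').comp (algebraMap B B')) :
    (maximalIdeal L).map κ = maximalIdeal L' := by
  algebraize [κ]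
  letI : Algebra B L' := ((algebraMap B' L').comp (algebraMap B B')).toAlgebra
  have : IsScalarTower B B' L' := IsScalarTower.of_algebraMap_eq fun _ => rfl
  have : IsScalarTower B L L' := IsScalarTower.of_algebraMap_eq fun b => (RingHom.congr_fun hκ b).symm
  have : Algebra.FormallyUnramified B' L' := Algebra.FormallyUnramified.of_isLocalization P'.primeCompl
  have : Algebra.FormallyUnramified B L' := Algebra.FormallyUnramified.comp B B' L'
  have : Algebra.FormallyUnramified L L' := Algebra.FormallyUnramified.of_restrictScalars B L L'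
  have : Algebra.EssFiniteType B' L' := Algebra.EssFiniteType.of_isLocalization L' P'.primeCompl
  have : Algebra.EssFiniteType B L' := Algebra.EssFiniteType.comp B B' L'
  have : Algebra.EssFiniteType L L' := Algebra.EssFiniteType.of_comp B L L'
  have : IsLocalHom (algebraMap L L') := ⟨fun x hx => by
    by_contra h
    exact map_mem_maximalIdeal P P' hcomap κ hκ x h hx⟩
  exact Algebra.FormallyUnramified.map_maximalIdeal

/-- Approximation on étale neighbourhoods, core statement. -/
theorem exists_local_approx {B L : Type u} [CommRing B] [IsNoetherianRing B] [CommRing L] [Algebra B L]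
    [IsLocalRing L] [IsNoetherianRing L] (P : Ideal B) [P.IsPrime] [IsLocalization.AtPrime L P]
    (hG : CAlg.IsGRing L) {D : Type u} [CommRing D] [Algebra B D] [Algebra.FinitePresentation B D]
    (f : D →ₐ[B] AdicCompletion (maximalIdeal L) L) {N : ℕ} (hN : 1 ≤ N) :
    ∃ (B' : Type u) (_ : CommRing B') (_ : Algebra B B'), Algebra.Etale B B' ∧
      ∃ (g : D →ₐ[B] B') (P' : Ideal B') (_ : P'.IsPrime), P'.comap (algebraMap B B') = P ∧
        (∀ d, g d ∈ P' ↔ f d ∈ maximalIdeal (AdicCompletion (maximalIdeal L) L)) ∧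
        ∀ (L' : Type u) [CommRing L'] [IsLocalRing L'] [Algebra B' L'] [IsLocalization.AtPrime L' P']
          (κ : L →+* L'), κ.comp (algebraMap B L) = (algebraMap B' L').comp (algebraMap B B') →
          (∀ x : L', ∃ c : L, x - κ c ∈ maximalIdeal L') ∧
          ∀ (d : D) (c : L), AdicCompletion.evalₐ (maximalIdeal L) N (f d) =
            Ideal.Quotient.mk (maximalIdeal L ^ N) c →
            algebraMap B' L' (g d) - κ c ∈ maximalIdeal L' ^ N := by
  let T := AdicCompletion (maximalIdeal L) L
  have hfg : (maximalIdeal L).FG := IsNoetherian.noetherian _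
  have : IsNoetherianRing T := AdicRingLib.isNoetherianRing_adicCompletion _
  have hmT : maximalIdeal T = (maximalIdeal L).map (algebraMap L T) := AdicCompletion.maximalIdeal_eq_map
  have hind : Smoothing.IndSmooth B T := TransLib.indSmooth_of_localization (Rₛ := L) P.primeCompl
    (TransLib.indSmooth_of_isRegularHom (TransLib.isRegularHom_completion_of_isGRing hG))
  have hdense : ∀ (y : T) (k : ℕ), ∃ r s : B, IsUnit (algebraMap B T s) ∧
      algebraMap B T s * y - algebraMap B T r ∈ maximalIdeal T ^ k := fun y k => by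
    obtain ⟨z, hz⟩ := AdicRingLib.exists_sub_mem_map_pow hfg k y
    obtain ⟨r, s, rfl⟩ := IsLocalization.exists_mk'_eq P.primeCompl z
    refine ⟨r, s, ?_, ?_⟩
    · rw [IsScalarTower.algebraMap_apply B L T]
      exact (IsLocalization.map_units L s).map (algebraMap L T)
    · rw [IsScalarTower.algebraMap_apply B L T r, ← IsLocalization.mk'_spec L r s, map_mul,
        IsScalarTower.algebraMap_apply B L T, mul_comm (algebraMap L T (IsLocalization.mk' L r s)), ← mul_sub,
        hmT, ← Ideal.map_pow]
      exact Ideal.mul_mem_left _ _ hz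
  obtain ⟨B', _, _, hB', ψ, g, hg⟩ := exists_etale_approx_hom hind hdense f N
  let P' : Ideal B' := (maximalIdeal T).comap ψ
  have hcomap : P'.comap (algebraMap B B') = P := by
    ext r
    show ψ (algebraMap B B' r) ∈ maximalIdeal T ↔ _
    rw [ψ.commutes, IsScalarTower.algebraMap_apply B L T]
    constructor
    · intro h
      by_contra hr
      exact h ((IsLocalization.map_units L (⟨r, hr⟩ : P.primeCompl)).map (algebraMap L T))
    · intro h
      rw [hmT]
      exact Ideal.mem_map_of_mem _ ((IsLocalization.AtPrime.to_map_mem_maximal_iff L P r).2 h)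
  refine ⟨B', inferInstance, inferInstance, hB', g, P', inferInstance, hcomap, fun d => ?_,
    fun L' _ _ _ _ κ hκ => ?_⟩
  · have h : f d - ψ (g d) ∈ maximalIdeal T := Ideal.pow_le_self (by omega) (hg d)
    show ψ (g d) ∈ maximalIdeal T ↔ _
    exact ⟨fun h' => by have := add_mem h h'; rwa [sub_add_cancel] at this, fun h' => by
      have := sub_mem h' h; rwa [sub_sub_cancel] at this⟩
  have hκm : ∀ x ∈ maximalIdeal L, κ x ∈ maximalIdeal L' := map_mem_maximalIdeal P P' hcomap κ hκ
  -- residual surjectivity
  have hres : ∀ y : B', ∃ c : L, algebraMap B' L' y - κ c ∈ maximalIdeal L' := fun y => by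
    obtain ⟨r, s, hu, hrs⟩ := hdense (ψ y) 1
    have hs : s ∉ P := fun hs => by
      have h : algebraMap B T s ∈ maximalIdeal T := by
        rw [hmT, IsScalarTower.algebraMap_apply B L T]
        exact Ideal.mem_map_of_mem _ ((IsLocalization.AtPrime.to_map_mem_maximal_iff L P s).2 hs)
      exact h hu
    refine ⟨IsLocalization.mk' L r (⟨s, hs⟩ : P.primeCompl), ?_⟩
    have h1 : algebraMap B B' s * y - algebraMap B B' r ∈ P' := by
      show ψ _ ∈ maximalIdeal T
      rw [map_sub, map_mul, ψ.commutes, ψ.commutes]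
      simpa using hrs
    have h2 : (algebraMap B' L' y - κ (IsLocalization.mk' L r (⟨s, hs⟩ : P.primeCompl))) *
        κ (algebraMap B L s) ∈ maximalIdeal L' := by
      rw [sub_mul, ← map_mul κ, IsLocalization.mk'_spec, ← RingHom.comp_apply κ, ← RingHom.comp_apply κ, hκ,
        RingHom.comp_apply, RingHom.comp_apply, ← map_mul, ← map_sub, mul_comm y]
      exact (IsLocalization.AtPrime.to_map_mem_maximal_iff L' P' _).2 h1
    exact (Ideal.mul_unit_mem_iff_mem _
      ((IsLocalization.map_units L (⟨s, hs⟩ : P.primeCompl)).map κ)).1 h2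
  have hsurj : ∀ x : L', ∃ c : L, x - κ c ∈ maximalIdeal L' := fun x => by
    obtain ⟨y, t, rfl⟩ := IsLocalization.exists_mk'_eq P'.primeCompl x
    obtain ⟨c, hc⟩ := hres y
    obtain ⟨e, he⟩ := hres t
    have hu : IsUnit (κ e) := by
      by_contra h
      have h3 := add_mem he ((mem_maximalIdeal _).2 h)
      rw [sub_add_cancel] at h3
      exact h3 (IsLocalization.map_units L' t)
    have heu : IsUnit e := by
      by_contra h
      exact hκm e h hu
    obtain ⟨e, rfl⟩ := heu
    refine ⟨c * (↑e⁻¹ : L), ?_⟩
    refine (Ideal.mul_unit_mem_iff_mem _ (IsLocalization.map_units L' t)).1 ?_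
    rw [sub_mul, IsLocalization.mk'_spec]
    have h4 : κ (↑e⁻¹ : L) * κ (↑e : L) = 1 := by rw [← map_mul, Units.inv_mul, map_one]
    have h5 : algebraMap B' L' y - κ (c * ↑e⁻¹) * algebraMap B' L' t =
        (algebraMap B' L' y - κ c) - κ (c * ↑e⁻¹) * (algebraMap B' L' t - κ e) := by
      rw [map_mul]; linear_combination (κ c) * (-h4)
    rw [h5]
    exact sub_mem hc (Ideal.mul_mem_left _ _ he)
  refine ⟨hsurj, fun d c hdc => ?_⟩
  let χ : L' →+* T := IsLocalization.lift (M := P'.primeCompl) (g := ψ.toRingHom) fun t =>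
    IsLocalRing.notMem_maximalIdeal.1 t.2
  have hχ : ∀ y, χ (algebraMap B' L' y) = ψ y := fun y => IsLocalization.lift_eq _ _
  have hχκ : χ.comp κ = algebraMap L T := IsLocalization.ringHom_ext P.primeCompl (RingHom.ext fun b => by
    show χ (κ (algebraMap B L b)) = algebraMap L T (algebraMap B L b)
    rw [← RingHom.comp_apply κ, hκ, RingHom.comp_apply, hχ, ψ.commutes, IsScalarTower.algebraMap_apply B L T])
  have hmap := map_maximalIdeal_eq P P' hcomap κ hκ
  letI : Algebra L L' := κ.toAlgebra
  obtain ⟨c₀, hc₀⟩ := exists_sub_mem_pow (maximalIdeal L) (fun x => by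
    obtain ⟨e, he⟩ := hsurj x
    exact ⟨e, by rw [RingHom.algebraMap_toAlgebra, hmap]; exact he⟩) N (algebraMap B' L' (g d) - κ c)
  rw [RingHom.algebraMap_toAlgebra, hmap] at hc₀
  have hχm : ∀ z ∈ maximalIdeal L' ^ N, χ z ∈ maximalIdeal T ^ N := fun z hz => by
    rw [← hmap, ← Ideal.map_pow] at hz
    rw [hmT, ← Ideal.map_pow, ← hχκ, ← Ideal.map_map]
    exact Ideal.mem_map_of_mem χ hz
  have h1 : χ (algebraMap B' L' (g d) - κ c) ∈ maximalIdeal T ^ N := by
    rw [map_sub, hχ, ← RingHom.comp_apply χ, hχκ]
    have h2 : f d - algebraMap L T c ∈ maximalIdeal T ^ N := by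
      rw [hmT, ← Ideal.map_pow]
      obtain ⟨e, he⟩ := AdicRingLib.exists_sub_mem_map_pow hfg N (f d)
      have h0 : AdicCompletion.evalₐ (maximalIdeal L) N (f d - algebraMap L T e) = 0 := by
        refine (Ideal.map_le_iff_le_comap (K := RingHom.ker (AdicCompletion.evalₐ (maximalIdeal L) N).toRingHom)).2
          (fun z hz => ?_) he
        show AdicCompletion.evalₐ (maximalIdeal L) N (algebraMap L T z) = 0
        rw [AlgHom.commutes, Ideal.Quotient.algebraMap_eq, Ideal.Quotient.eq_zero_iff_mem]
        exact hz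
      rw [map_sub, AlgHom.commutes, hdc, Ideal.Quotient.algebraMap_eq, ← map_sub,
        Ideal.Quotient.eq_zero_iff_mem] at h0
      have h3 := sub_mem he (Ideal.mem_map_of_mem (algebraMap L T) h0)
      rwa [map_sub, sub_sub, add_comm, sub_add_cancel] at h3
    have h4 := sub_mem h2 (hg d)
    rwa [sub_sub_sub_cancel_left] at h4
  have h5 : algebraMap L T c₀ ∈ maximalIdeal T ^ N := by
    have h6 := sub_mem h1 (hχm _ hc₀)
    rw [← map_sub χ, sub_sub_cancel, ← RingHom.comp_apply χ, hχκ] at h6
    exact h6
  rw [hmT, ← Ideal.map_pow] at h5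
  have hc : c₀ ∈ maximalIdeal L ^ N := (AdicRingLib.algebraMap_mem_map_pow_iff hfg N c₀).1 h5
  have h7 := add_mem hc₀ (show κ c₀ ∈ maximalIdeal L' ^ N by
    rw [← hmap, ← Ideal.map_pow]; exact Ideal.mem_map_of_mem κ hc)
  simpa [RingHom.algebraMap_toAlgebra] using h7

end ApproxLib
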