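import Groth.Agent.TransLib.Popescu
import Groth.Agent.AdicRingLib.Completion
import Groth.Agent.HenselLib.Perm
import Groth.Agent.S0536

/-!
# Approximation for henselian pairs with regular completion map
-/

set_option autoImplicit false

universe u

namespace ApproxLib

/-- Maps from finitely presented algebras to the completion are approximated by maps to the base. -/
theorem exists_approx {A : Type u} [CommRing A] [IsNoetherianRing A] (I : Ideal A) [HenselianRing A I]
    (hreg : CAlg.IsRegularHom A (AdicCompletion I A)) {B : Type u} [CommRing B] [Algebra A B]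
    [Algebra.FinitePresentation A B] (f : B →ₐ[A] AdicCompletion I A) (N : ℕ) :
    ∃ g : B →ₐ[A] A, ∀ b, Ideal.Quotient.mk (I ^ (N + 1)) (g b) = AdicCompletion.evalₐ I (N + 1) (f b) := by
  have : IsNoetherianRing (AdicCompletion I A) := AdicRingLib.isNoetherianRing_adicCompletion I
  obtain ⟨B', _, _, hB', g', h, hgh⟩ := TransLib.indSmooth_of_isRegularHom hreg B inferInstance f
  have : HenselianRing A (I ^ (N + 1)) :=
    HenselLib.henselianRing_of_le_radical ((Ideal.pow_le_self N.succ_ne_zero).trans Ideal.le_radical)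
  obtain ⟨τ, hτ⟩ := Groth.Agent.S0536.result A B' A (I ^ (N + 1)) ((AdicCompletion.evalₐ I (N + 1)).comp h)
  refine ⟨τ.comp g', fun b => ?_⟩
  rw [← hgh]
  exact DFunLike.congr_fun hτ (g' b)

/-- Congruence in the completion from equality of truncations. -/
theorem sub_mem_of_evalₐ_eq {A : Type u} [CommRing A] [IsNoetherianRing A] (I : Ideal A) (n : ℕ)
    (x : AdicCompletion I A) (b : A) (h : Ideal.Quotient.mk (I ^ n) b = AdicCompletion.evalₐ I n x) :
    x - algebraMap A (AdicCompletion I A) b ∈ (I ^ n).map (algebraMap A (AdicCompletion I A)) := by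
  obtain ⟨c, hc⟩ := AdicRingLib.exists_sub_mem_map_pow (IsNoetherian.noetherian I) n x
  have h0 : AdicCompletion.evalₐ I n (x - algebraMap A (AdicCompletion I A) c) = 0 := by
    refine (Ideal.map_le_iff_le_comap (K := RingHom.ker (AdicCompletion.evalₐ I n).toRingHom)).2 (fun z hz => ?_) hc
    show AdicCompletion.evalₐ I n (algebraMap A _ z) = 0
    rw [AlgHom.commutes, Ideal.Quotient.algebraMap_eq, Ideal.Quotient.eq_zero_iff_mem]
    exact hz
  rw [map_sub, AlgHom.commutes, Ideal.Quotient.algebraMap_eq, sub_eq_zero, ← h, Ideal.Quotient.eq] at h0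
  have h1 := add_mem hc (Ideal.mem_map_of_mem (algebraMap A (AdicCompletion I A)) ((Submodule.neg_mem_iff _).2 h0))
  rwa [map_neg, map_sub, neg_sub, sub_add_sub_cancel] at h1

end ApproxLib
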