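import Groth.Agent.TransLib.TensorStage
import Mathlib

/-!
# Descending étale algebras to finitely presented stages
-/

set_option autoImplicit false

universe u

open TensorProduct

namespace ApproxLib

/-- Base change of an étale map of algebras. -/
theorem etale_map_id {A A' M F : Type u} [CommRing A] [CommRing A'] [Algebra A A'] [CommRing M] [Algebra A M]
    [CommRing F] [Algebra A F] (u : M →ₐ[A] F) (hu : u.toRingHom.Etale) :
    (Algebra.TensorProduct.map (AlgHom.id A' A') u).toRingHom.Etale := by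
  letI : Algebra M F := u.toRingHom.toAlgebra
  haveI : IsScalarTower A M F := IsScalarTower.of_algebraMap_eq fun a => (u.commutes a).symm
  haveI : Algebra.Etale M F := hu
  letI : Algebra M (A' ⊗[A] M) := Algebra.TensorProduct.rightAlgebra
  haveI : IsScalarTower A M (A' ⊗[A] M) := IsScalarTower.of_algebraMap_eq fun a => by
    exact (Algebra.TensorProduct.includeRight.commutes a).symm
  let mp := Algebra.TensorProduct.map (AlgHom.id A' A') u
  letI : Algebra (A' ⊗[A] M) (A' ⊗[A] F) := mp.toRingHom.toAlgebra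
  letI algMF : Algebra M (A' ⊗[A] F) := (mp.toRingHom.comp (algebraMap M (A' ⊗[A] M))).toAlgebra
  haveI : IsScalarTower M (A' ⊗[A] M) (A' ⊗[A] F) := IsScalarTower.of_algebraMap_eq fun _ => rfl
  let f₁ : A' ⊗[A] M →ₐ[A' ⊗[A] M] A' ⊗[A] F := Algebra.ofId _ _
  let f₂ : F →ₐ[M] A' ⊗[A] F :=
    { (Algebra.TensorProduct.includeRight : F →ₐ[A] A' ⊗[A] F).toRingHom with
      commutes' := fun m => by
        show (1 : A') ⊗ₜ[A] u m = mp ((1 : A') ⊗ₜ[A] m)
        rw [Algebra.TensorProduct.map_tmul]
        rfl }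
  let Q := (A' ⊗[A] M) ⊗[M] F
  let fwd : Q →ₐ[A' ⊗[A] M] A' ⊗[A] F := Algebra.TensorProduct.lift f₁ f₂ fun _ _ => Commute.all _ _
  let g₁ : A' →ₐ[A] Q :=
    { (algebraMap (A' ⊗[A] M) Q).comp (Algebra.TensorProduct.includeLeft : A' →ₐ[A] A' ⊗[A] M).toRingHom with
      commutes' := fun a => congrArg (algebraMap (A' ⊗[A] M) Q)
        ((Algebra.TensorProduct.includeLeft : A' →ₐ[A] A' ⊗[A] M).commutes a) }
  let g₂ : F →ₐ[A] Q :=
    { (Algebra.TensorProduct.includeRight : F →ₐ[M] Q).toRingHom with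
      commutes' := fun a => by
        show (Algebra.TensorProduct.includeRight : F →ₐ[M] Q) (algebraMap A F a) = _
        rw [IsScalarTower.algebraMap_apply A M F, AlgHom.commutes, IsScalarTower.algebraMap_apply M (A' ⊗[A] M) Q,
          ← IsScalarTower.algebraMap_apply A M (A' ⊗[A] M)]
        rfl }
  let bwd : A' ⊗[A] F →ₐ[A] Q := Algebra.TensorProduct.lift g₁ g₂ fun _ _ => Commute.all _ _
  have hfb : ∀ z, fwd (bwd z) = z := by
    intro z
    induction z using TensorProduct.induction_on with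
    | zero => simp
    | add x y hx hy => rw [map_add, map_add, hx, hy]
    | tmul a y =>
      show fwd (Algebra.TensorProduct.lift g₁ g₂ _ (a ⊗ₜ[A] y)) = _
      rw [Algebra.TensorProduct.lift_tmul, map_mul]
      show fwd ((a ⊗ₜ[A] (1 : M)) ⊗ₜ[M] (1 : F)) * fwd ((1 : A' ⊗[A] M) ⊗ₜ[M] y) = _
      rw [Algebra.TensorProduct.lift_tmul, Algebra.TensorProduct.lift_tmul, map_one, map_one, one_mul, mul_one]
      show mp (a ⊗ₜ[A] (1 : M)) * (1 : A') ⊗ₜ[A] y = _
      rw [Algebra.TensorProduct.map_tmul, map_one, Algebra.TensorProduct.tmul_mul_tmul, mul_one, one_mul]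
      rfl
  have hbf : ∀ z, bwd (fwd z) = z := by
    have h1 : ∀ w : A' ⊗[A] M, bwd (mp w) = w ⊗ₜ[M] (1 : F) := by
      intro w
      induction w using TensorProduct.induction_on with
      | zero => rw [map_zero, map_zero, zero_tmul]
      | add x y hx hy => rw [map_add, map_add, hx, hy, add_tmul]
      | tmul a m =>
        rw [Algebra.TensorProduct.map_tmul]
        show Algebra.TensorProduct.lift g₁ g₂ _ (a ⊗ₜ[A] u m) = _
        rw [Algebra.TensorProduct.lift_tmul]
        show ((a ⊗ₜ[A] (1 : M)) ⊗ₜ[M] (1 : F)) * ((1 : A' ⊗[A] M) ⊗ₜ[M] u m) = _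
        rw [show u m = m • (1 : F) by rw [Algebra.smul_def, mul_one]; rfl, ← TensorProduct.smul_tmul,
          Algebra.TensorProduct.tmul_mul_tmul, one_mul, Algebra.smul_def, mul_one]
        show ((a ⊗ₜ[A] (1 : M)) * ((1 : A') ⊗ₜ[A] m)) ⊗ₜ[M] (1 : F) = _
        rw [Algebra.TensorProduct.tmul_mul_tmul, mul_one, one_mul]
    intro z
    induction z using TensorProduct.induction_on with
    | zero => simp
    | add x y hx hy => rw [map_add, map_add, hx, hy]
    | tmul w y =>
      show bwd (Algebra.TensorProduct.lift f₁ f₂ _ (w ⊗ₜ[M] y)) = _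
      rw [Algebra.TensorProduct.lift_tmul, map_mul]
      show bwd (mp w) * Algebra.TensorProduct.lift g₁ g₂ _ ((1 : A') ⊗ₜ[A] y) = _
      rw [h1, Algebra.TensorProduct.lift_tmul, map_one, one_mul]
      show (w ⊗ₜ[M] (1 : F)) * ((1 : A' ⊗[A] M) ⊗ₜ[M] y) = _
      rw [Algebra.TensorProduct.tmul_mul_tmul, mul_one, one_mul]
  have : Algebra.Etale (A' ⊗[A] M) (A' ⊗[A] F) := Algebra.Etale.of_equiv
    (AlgEquiv.ofBijective fwd ⟨fun x y h => by rw [← hbf x, h, hbf], fun z => ⟨bwd z, hfb z⟩⟩)
  exact this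

/-- A model over `A` of an algebra over `T`. -/
abbrev modelLift {A T F E : Type u} [CommRing A] [CommRing T] [Algebra A T] [CommRing F] [Algebra A F] [CommRing E]
    [Algebra A E] [Algebra T E] [IsScalarTower A T E] (θ : F →ₐ[A] E) : T ⊗[A] F →ₐ[T] E :=
  Algebra.TensorProduct.lift (Algebra.ofId T E) θ fun _ _ => Commute.all _ _

theorem modelLift_tmul {A T F E : Type u} [CommRing A] [CommRing T] [Algebra A T] [CommRing F] [Algebra A F] [CommRing E]
    [Algebra A E] [Algebra T E] [IsScalarTower A T E] (θ : F →ₐ[A] E) (t : T) (y : F) :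
    modelLift θ (t ⊗ₜ[A] y) = algebraMap T E t * θ y :=
  Algebra.TensorProduct.lift_tmul _ _ _ _ _

/-- Models stay models after a change of stage. -/
theorem bijective_modelLift_baseChange {A A' T F E : Type u} [CommRing A] [CommRing A'] [Algebra A A'] [CommRing T]
    [Algebra A T] [Algebra A' T] [IsScalarTower A A' T] [CommRing F] [Algebra A F] [CommRing E] [Algebra A E]
    [Algebra T E] [IsScalarTower A T E] [Algebra A' E] [IsScalarTower A A' E] [IsScalarTower A' T E]
    (θ : F →ₐ[A] E) (hθ : Function.Bijective (modelLift (T := T) θ)) :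
    Function.Bijective (modelLift (T := T)
      (Algebra.TensorProduct.lift (Algebra.ofId A' E) θ fun _ _ => Commute.all _ _ : A' ⊗[A] F →ₐ[A'] E)) := by
  let e := Algebra.TensorProduct.cancelBaseChange A A' T T F
  have h : ∀ z, modelLift (T := T)
      (Algebra.TensorProduct.lift (Algebra.ofId A' E) θ fun _ _ => Commute.all _ _ : A' ⊗[A] F →ₐ[A'] E) z =
        modelLift θ (e z) := by
    intro z
    induction z using TensorProduct.induction_on with
    | zero => simp
    | add x y hx hy => rw [map_add, map_add, map_add, hx, hy]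
    | tmul t w =>
      induction w using TensorProduct.induction_on with
      | zero => simp
      | add x y hx hy => rw [TensorProduct.tmul_add, map_add, map_add, map_add, hx, hy]
      | tmul a y =>
        rw [modelLift_tmul, Algebra.TensorProduct.lift_tmul, Algebra.TensorProduct.cancelBaseChange_tmul,
          modelLift_tmul, Algebra.smul_def, map_mul, ← IsScalarTower.algebraMap_apply, Algebra.ofId_apply]
        ring
  rw [show (⇑(modelLift (T := T)
      (Algebra.TensorProduct.lift (Algebra.ofId A' E) θ fun _ _ => Commute.all _ _ : A' ⊗[A] F →ₐ[A'] E))) =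
    modelLift θ ∘ e from funext h]
  exact hθ.comp e.bijective

variable {A T : Type u} [CommRing A] [IsNoetherianRing A] [CommRing T] [Algebra A T]

/-- Finitely many elements become zero at a finite stage. -/
theorem exists_kill_finset {F : Type u} [CommRing F] [Algebra A F] (A' : Subalgebra A T) (hA' : A'.FG)
    (s : Finset (↥A' ⊗[A] F)) (h : ∀ z ∈ s, Algebra.TensorProduct.map A'.val (AlgHom.id A F) z = 0) :
    ∃ (A'' : Subalgebra A T) (_ : A''.FG) (hle : A' ≤ A''),
      ∀ z ∈ s, Algebra.TensorProduct.map (Subalgebra.inclusion hle) (AlgHom.id A F) z = 0 := by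
  classical
  let ι := {S : Subalgebra A T // S.FG}
  haveI : Nonempty ι := ⟨⟨A', hA'⟩⟩
  haveI : IsDirected ι (· ≤ ·) := ⟨fun a b => ⟨⟨a.1 ⊔ b.1, a.2.sup b.2⟩, le_sup_left (a := a.1) (b := b.1), le_sup_right (a := a.1) (b := b.1)⟩⟩
  let G : ι → Type u := fun S => S.1
  let f : ∀ i j : ι, i ≤ j → (G i →ₐ[A] G j) := fun i j hij => Subalgebra.inclusion hij
  let g : ∀ i : ι, G i →ₐ[A] T := fun i => i.1.val
  have hg : ∀ i j (hij : i ≤ j), (g j).comp (f i j hij) = g i := fun i j hij => rfl
  have hsurj : ∀ a : T, ∃ i, ∃ x : G i, g i x = a := fun a =>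
    ⟨⟨Algebra.adjoin A {a}, ⟨{a}, by simp⟩⟩, ⟨a, Algebra.self_mem_adjoin_singleton A a⟩, rfl⟩
  have hker : ∀ i (x : G i), g i x = 0 → ∃ j, ∃ hij : i ≤ j, f i j hij x = 0 := fun i x hx =>
    ⟨i, le_rfl, Subtype.ext hx⟩
  induction s using Finset.induction with
  | empty => exact ⟨A', hA', le_rfl, by simp⟩
  | insert a s ha ih =>
    obtain ⟨A₁, hA₁, hle₁, hs⟩ := ih fun z hz => h z (Finset.mem_insert_of_mem hz)
    let a₁ : ↥A₁ ⊗[A] F := Algebra.TensorProduct.map (Subalgebra.inclusion hle₁) (AlgHom.id A F) a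
    let x : F ⊗[A] ↥A₁ := Algebra.TensorProduct.comm A _ _ a₁
    have hx : LinearMap.lTensor F A₁.val.toLinearMap x = 0 := by
      have key : ∀ w : ↥A' ⊗[A] F, LinearMap.lTensor F A₁.val.toLinearMap
          (Algebra.TensorProduct.comm A _ _ (Algebra.TensorProduct.map (Subalgebra.inclusion hle₁) (AlgHom.id A F) w)) =
          Algebra.TensorProduct.comm A _ _ (Algebra.TensorProduct.map A'.val (AlgHom.id A F) w) := by
        intro w
        induction w using TensorProduct.induction_on with
        | zero => simp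
        | add x y hx hy => simp only [map_add, hx, hy]
        | tmul b y => rfl
      show LinearMap.lTensor F A₁.val.toLinearMap (Algebra.TensorProduct.comm A _ _ a₁) = 0
      rw [key a, h a (Finset.mem_insert_self a s), map_zero]
    obtain ⟨j, φ, hφ, hkill⟩ := TransLib.exists_kill_tensor (M := F) hg hsurj hker (i := ⟨A₁, hA₁⟩) x hx
    have hle₂ : A₁ ≤ j.1 := fun t ht => by
      have : (φ ⟨t, ht⟩ : T) = t := DFunLike.congr_fun hφ (⟨t, ht⟩ : G ⟨A₁, hA₁⟩)
      rw [← this]
      exact (φ ⟨t, ht⟩).2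
    have hφi : φ = Subalgebra.inclusion hle₂ := AlgHom.ext fun t => Subtype.ext (DFunLike.congr_fun hφ t)
    refine ⟨j.1, j.2, hle₁.trans hle₂, fun z hz => ?_⟩
    have hcomp : ∀ w : ↥A' ⊗[A] F, Algebra.TensorProduct.map (Subalgebra.inclusion (hle₁.trans hle₂)) (AlgHom.id A F) w =
        Algebra.TensorProduct.map (Subalgebra.inclusion hle₂) (AlgHom.id A F)
          (Algebra.TensorProduct.map (Subalgebra.inclusion hle₁) (AlgHom.id A F) w) := by
      intro w
      induction w using TensorProduct.induction_on with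
      | zero => simp
      | add x y hx hy => simp only [map_add, hx, hy]
      | tmul b y => rfl
    rw [hcomp]
    rcases Finset.mem_insert.1 hz with rfl | hz
    · have key2 : ∀ w : ↥A₁ ⊗[A] F, Algebra.TensorProduct.map φ (AlgHom.id A F) w = (Algebra.TensorProduct.comm A _ _)
          (LinearMap.lTensor F φ.toLinearMap (Algebra.TensorProduct.comm A _ _ w)) := by
        intro w
        induction w using TensorProduct.induction_on with
        | zero => simp
        | add x y hx hy => simp only [map_add, hx, hy]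
        | tmul b y => rfl
      rw [← hφi]
      refine (key2 _).trans ?_
      show (Algebra.TensorProduct.comm A _ _) (LinearMap.lTensor F φ.toLinearMap x) = 0
      rw [hkill, map_zero]
    · rw [hs z hz, map_zero]

/-- Finitely many elements over `T` come from a finite stage. -/
theorem exists_stage_finite {F : Type u} [CommRing F] [Algebra A F] {κ : Type*} [Finite κ] (w : κ → T ⊗[A] F) :
    ∃ (A' : Subalgebra A T) (_ : A'.FG), ∀ k, ∃ z, Algebra.TensorProduct.map A'.val (AlgHom.id A F) z = w k := by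
  classical
  cases nonempty_fintype κ
  have h1 : ∀ k, ∃ s : Finset (T × F), w k = ∑ p ∈ s, p.1 ⊗ₜ[A] p.2 := fun k => TensorProduct.exists_finset (w k)
  choose s hs using h1
  let ts : Finset T := Finset.univ.biUnion fun k => (s k).image Prod.fst
  refine ⟨Algebra.adjoin A (ts : Set T), ⟨ts, rfl⟩, fun k => ?_⟩
  refine ⟨∑ p ∈ (s k).attach, (⟨p.1.1, Algebra.subset_adjoin (by
    simp only [ts, Finset.coe_biUnion, Finset.coe_image, Set.mem_iUnion, Set.mem_image, Finset.mem_coe]
    exact ⟨k, Finset.mem_univ k, p.1, p.2, rfl⟩)⟩ : ↥(Algebra.adjoin A (ts : Set T))) ⊗ₜ[A] p.1.2, ?_⟩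
  rw [map_sum, hs k]
  refine Eq.trans ?_ (Finset.sum_attach (s k) (fun p => p.1 ⊗ₜ[A] p.2))
  refine Finset.sum_congr rfl fun p _ => ?_
  rw [Algebra.TensorProduct.map_tmul]
  rfl

end ApproxLib
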